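import Groth.Agent.HilbTgtLib.Piece
import Mathlib.RingTheory.MvPolynomial.Ideal
import Mathlib.Data.Finsupp.Weight

/-! The degree zero homomorphisms `I → S/I` of a monomial ideal, computed from the coefficient
relations between generators. -/

set_option linter.unusedSectionVars false
set_option linter.style.haveILetI false

namespace Hom0Lib

open MvPolynomial W4c1hilbpn

variable {σ : Type*} [Fintype σ] {k : Type*} [Field k] (I : Ideal (MvPolynomial σ k))

section MkTgt

variable (f : (σ →₀ ℕ) → MvPolynomial σ k ⧸ I)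

noncomputable def ext : MvPolynomial σ k →ₗ[k] MvPolynomial σ k ⧸ I :=
  (MvPolynomial.basisMonomials σ k).constr k f

theorem ext_monomial (β : σ →₀ ℕ) : ext I f (monomial β 1) = f β := by
  have h := (MvPolynomial.basisMonomials σ k).constr_basis k f β
  rwa [MvPolynomial.coe_basisMonomials] at h

variable {I f}

theorem ext_X_mul (hI : IsMonomial I)
    (hf : ∀ β ∈ exps I, ∀ i, f (β + Finsupp.single i 1) = Ideal.Quotient.mk I (X i) * f β)
    {p : MvPolynomial σ k} (hp : p ∈ I) (i : σ) : ext I f (X i * p) = Ideal.Quotient.mk I (X i) * ext I f p := by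
  conv_lhs => rw [p.as_sum, Finset.mul_sum, map_sum]
  conv_rhs => rw [p.as_sum, map_sum, Finset.mul_sum]
  refine Finset.sum_congr rfl fun β hβ => ?_
  rw [show monomial β (coeff β p) = coeff β p • monomial β (1 : k) by rw [smul_monomial, smul_eq_mul, mul_one],
    Algebra.mul_smul_comm, map_smul, map_smul, ext_monomial, HilbTgtLib.ksmul_mul,
    show X i * monomial β (1 : k) = monomial (β + Finsupp.single i 1) 1 by rw [X, monomial_mul, one_mul, add_comm],
    ext_monomial, hf β (hI p hp β hβ)]

theorem ext_mul (hI : IsMonomial I)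
    (hf : ∀ β ∈ exps I, ∀ i, f (β + Finsupp.single i 1) = Ideal.Quotient.mk I (X i) * f β)
    (s : MvPolynomial σ k) : ∀ {p : MvPolynomial σ k}, p ∈ I → ext I f (s * p) = Ideal.Quotient.mk I s * ext I f p := by
  induction s using MvPolynomial.induction_on with
  | C a => intro p _; rw [← HilbTgtLib.ksmul_quot, ← MvPolynomial.smul_eq_C_mul, map_smul]
  | add s t hs ht => intro p hp; rw [add_mul, map_add, map_add, add_mul, hs hp, ht hp]
  | mul_X s i hs =>
    intro p hp
    rw [mul_assoc, hs (I.mul_mem_left _ hp), ext_X_mul hI hf hp, map_mul, mul_assoc]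

noncomputable def mkTgt (hI : IsMonomial I)
    (hf : ∀ β ∈ exps I, ∀ i, f (β + Finsupp.single i 1) = Ideal.Quotient.mk I (X i) * f β) : Tgt I where
  toFun p := ext I f p.1
  map_add' p q := by simp
  map_smul' s p := by
    simp only [SetLike.val_smul, smul_eq_mul, RingHom.id_apply]
    rw [ext_mul hI hf s p.2, HilbTgtLib.smul_quot]

theorem mkTgt_monomial (hI : IsMonomial I)
    (hf : ∀ β ∈ exps I, ∀ i, f (β + Finsupp.single i 1) = Ideal.Quotient.mk I (X i) * f β)
    (β : σ →₀ ℕ) (hβ : monomial β (1 : k) ∈ I) : mkTgt hI hf ⟨monomial β 1, hβ⟩ = f β := ext_monomial I f β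

end MkTgt

section Gen

variable {ι : Type*} (G : ι → σ →₀ ℕ) (hI : I = Ideal.span (Set.range fun g => monomial (G g) (1 : k)))

include hI in
theorem mem_iff (p : MvPolynomial σ k) : p ∈ I ↔ ∀ β ∈ p.support, ∃ g, G g ≤ β := by
  subst hI
  rw [show (Set.range fun g => monomial (G g) (1 : k)) = (fun s => monomial s (1 : k)) '' Set.range G by
    rw [← Set.range_comp]; rfl, mem_ideal_span_monomial_image]
  simp

include hI in
theorem exps_iff (β : σ →₀ ℕ) : β ∈ exps I ↔ ∃ g, G g ≤ β := by
  classical
  show monomial β (1 : k) ∈ I ↔ _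
  rw [mem_iff I G hI]
  simp [support_monomial]

include hI in
theorem isMonomial : IsMonomial I := fun p hp β hβ =>
  (exps_iff I G hI β).2 ((mem_iff I G hI p).1 hp β hβ)

include hI in
theorem gen_mem (g : ι) : monomial (G g) (1 : k) ∈ I := (exps_iff I G hI _).2 ⟨g, le_rfl⟩

noncomputable def evalGen (g : ι) : Tgt I →ₗ[k] MvPolynomial σ k ⧸ I where
  toFun φ := φ ⟨monomial (G g) 1, gen_mem I G hI g⟩
  map_add' _ _ := rfl
  map_smul' _ _ := LinearMap.smul_apply _ _ _

open Classical in
/-- the coefficient of the standard monomial `μ` in the value at the generator `g` -/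
noncomputable def coef (g : ι) (μ : σ →₀ ℕ) : Tgt I →ₗ[k] k :=
  if h : μ ∉ exps I then (HilbTgtLib.qcoeff I (isMonomial I G hI) μ h).comp (evalGen I G hI g) else 0

theorem coef_of (g : ι) {μ : σ →₀ ℕ} (h : μ ∉ exps I) (φ : Tgt I) :
    coef I G hI g μ φ = HilbTgtLib.qcoeff I (isMonomial I G hI) μ h (φ ⟨monomial (G g) 1, gen_mem I G hI g⟩) := by
  rw [coef, dif_pos h]
  rfl

theorem coef_not (g : ι) {μ : σ →₀ ℕ} (h : μ ∈ exps I) (φ : Tgt I) : coef I G hI g μ φ = 0 := by
  rw [coef, dif_neg (not_not.2 h)]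
  rfl

noncomputable abbrev hom0 : Submodule k (Tgt I) := ⨆ α : {α : σ → ℤ // ∑ i, α i = 0}, tPiece I α.1

theorem coef_degree {φ : Tgt I} (hφ : φ ∈ hom0 I) {g : ι} {μ : σ →₀ ℕ} (hne : μ.degree ≠ (G g).degree) :
    coef I G hI g μ φ = 0 := by
  classical
  refine Submodule.iSup_induction _ (motive := fun φ => coef I G hI g μ φ = 0) hφ ?_ (map_zero _)
    fun x y hx hy => by rw [map_add, hx, hy, add_zero]
  rintro ⟨α, hα⟩ x hx
  by_cases hμ : μ ∈ exps I
  · exact coef_not I G hI g hμ x
  rw [coef_of I G hI g hμ]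
  have := hx (G g) (gen_mem I G hI g)
  by_cases hneg : ∀ i, 0 ≤ (G g i : ℤ) + α i
  · obtain ⟨c, hc⟩ := Submodule.mem_span_singleton.1 (this.1 hneg)
    rw [← hc, map_smul, HilbTgtLib.qcoeff_mk, coeff_monomial, if_neg, smul_zero]
    intro e
    apply hne
    have h1 : ((μ.degree : ℕ) : ℤ) = (G g).degree := by
      rw [Finsupp.degree_eq_sum, Finsupp.degree_eq_sum, Nat.cast_sum, Nat.cast_sum, ← e]
      simp only [shift, Finsupp.coe_equivFunOnFinite_symm]
      rw [Finset.sum_congr rfl fun i _ => Int.toNat_of_nonneg (hneg i), Finset.sum_add_distrib, hα, add_zero]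
    exact_mod_cast h1
  · push Not at hneg
    rw [this.2 hneg, map_zero]

open Classical in
/-- reading a coefficient family along a syzygy -/
noncomputable def along {V : Type*} (c : ι → (σ →₀ ℕ) → V) (zero : V) (g g' : ι) (γ : σ →₀ ℕ) : V :=
  if G g' - G g ≤ γ then c g (γ - (G g' - G g)) else zero

/-- the abstract relations satisfied by the coefficients of a homomorphism of degree zero -/
structure IsSol (c : ι → (σ →₀ ℕ) → k) : Prop where
  std : ∀ g μ, μ ∈ exps I → c g μ = 0
  deg : ∀ g μ, μ.degree ≠ (G g).degree → c g μ = 0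
  rel : ∀ g g' γ, γ ∉ exps I → along G c 0 g g' γ = along G c 0 g' g γ

theorem coef_along (φ : Tgt I) (g g' : ι) {γ : σ →₀ ℕ} (hγ : γ ∉ exps I) :
    along G (fun g μ => coef I G hI g μ φ) 0 g g' γ =
      HilbTgtLib.qcoeff I (isMonomial I G hI) γ hγ
        (Ideal.Quotient.mk I (monomial (G g' - G g) 1) * φ ⟨monomial (G g) 1, gen_mem I G hI g⟩) := by
  classical
  obtain ⟨p, hp⟩ := Ideal.Quotient.mk_surjective (φ ⟨monomial (G g) 1, gen_mem I G hI g⟩)
  rw [along, ← hp, ← map_mul, HilbTgtLib.qcoeff_mk, coeff_monomial_mul']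
  split_ifs with h
  · have hμ : γ - (G g' - G g) ∉ exps I := fun hm => hγ (HilbTgtLib.exps_mono I hm tsub_le_self)
    rw [coef_of I G hI g hμ, ← hp, HilbTgtLib.qcoeff_mk, one_mul]
  · rfl

theorem isSol {φ : Tgt I} (hφ : φ ∈ hom0 I) : IsSol I G fun g μ => coef I G hI g μ φ where
  std g μ h := coef_not I G hI g h φ
  deg g μ h := coef_degree I G hI hφ h
  rel g g' γ hγ := by
    rw [coef_along I G hI φ g g' hγ, coef_along I G hI φ g' g hγ, ← HilbTgtLib.smul_quot, ← HilbTgtLib.smul_quot,
      ← map_smul, ← map_smul]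
    congr 2
    apply Subtype.ext
    simp only [SetLike.val_smul, smul_eq_mul, monomial_mul, one_mul]
    refine congrArg (fun e => monomial e (1 : k)) (Finsupp.ext fun i => ?_)
    simp
    omega

theorem eq_zero_of_coef {φ : Tgt I} (h : ∀ g μ, coef I G hI g μ φ = 0) : φ = 0 := by
  have hg : ∀ g, φ ⟨monomial (G g) 1, gen_mem I G hI g⟩ = 0 := by
    intro g
    obtain ⟨p, hp⟩ := Ideal.Quotient.mk_surjective (φ ⟨monomial (G g) 1, gen_mem I G hI g⟩)
    rw [← hp, Ideal.Quotient.eq_zero_iff_mem, mem_iff I G hI]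
    intro β hβ
    rw [← exps_iff I G hI]
    by_contra hm
    apply mem_support_iff.1 hβ
    have := h g β
    rwa [coef_of I G hI g hm, ← hp, HilbTgtLib.qcoeff_mk] at this
  refine LinearMap.ext fun x => ?_
  obtain ⟨x, hx⟩ := x
  have key : x ∈ Ideal.span (Set.range fun g => monomial (G g) (1 : k)) := hI ▸ hx
  suffices ∀ y (_ : y ∈ Ideal.span (Set.range fun g => monomial (G g) (1 : k))), ∀ hy : y ∈ I, φ ⟨y, hy⟩ = 0 from
    this x key hx
  intro y hy
  induction hy using Submodule.span_induction with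
  | mem z hz =>
    obtain ⟨g, rfl⟩ := hz
    exact fun _ => hg g
  | zero => exact fun _ => map_zero φ
  | add u v hu hv h1 h2 =>
    intro h'
    have := map_add φ ⟨u, hI ▸ hu⟩ ⟨v, hI ▸ hv⟩
    rw [h1, h2, add_zero] at this
    exact this
  | smul r u hu h1 =>
    intro h'
    have := map_smul φ r ⟨u, hI ▸ hu⟩
    rw [h1, smul_zero] at this
    exact this

variable {P : Type*} (π : ι → (σ →₀ ℕ) → Option P)

/-- the monomials `x^β` of `I` on which the basis homomorphism of index `p` is nonzero -/
def Active (p : P) (β : σ →₀ ℕ) : Prop := ∃ g μ, π g μ = some p ∧ G g ≤ β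

/-- the data: a labelling of the coefficient slots by the free parameters -/
structure Labelling where
  rep : P → ι × (σ →₀ ℕ)
  deg : ∀ g μ p, π g μ = some p → μ.degree = (G g).degree
  mult : ∀ g μ p, π g μ = some p → μ + G (rep p).1 = (rep p).2 + G g
  rep_eq : ∀ p, π (rep p).1 (rep p).2 = some p
  rep_std : ∀ p, (rep p).2 ∉ exps I
  rel : ∀ g g' γ, γ ∉ exps I → along G π none g g' γ = along G π none g' g γ
  sol : ∀ c, IsSol I G c → ∀ g μ, μ ∉ exps I → μ.degree = (G g).degree →
    c g μ = (π g μ).elim 0 fun p => c (rep p).1 (rep p).2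

variable {I G π}

/-- the multidegree of a parameter -/
def Labelling.alpha (D : Labelling I G π) (p : P) : σ → ℤ := fun i => ((D.rep p).2 i : ℤ) - G (D.rep p).1 i

theorem Labelling.alpha_sum (D : Labelling I G π) (p : P) : ∑ i, D.alpha p i = 0 := by
  simp only [Labelling.alpha, Finset.sum_sub_distrib, ← Nat.cast_sum, ← Finsupp.degree_eq_sum, D.deg _ _ _ (D.rep_eq p), sub_self]

theorem Labelling.node (D : Labelling I G π) {g : ι} {μ : σ →₀ ℕ} {p : P} (h : π g μ = some p) (i : σ) :
    (μ i : ℤ) = G g i + D.alpha p i := by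
  have := DFunLike.congr_fun (D.mult g μ p h) i
  simp only [Finsupp.add_apply] at this
  simp only [Labelling.alpha]
  omega

theorem Labelling.active_shift (D : Labelling I G π) {p : P} {β : σ →₀ ℕ} (h : Active G π p β) :
    ∀ i, 0 ≤ (β i : ℤ) + D.alpha p i := by
  obtain ⟨g, μ, hπ, hle⟩ := h
  intro i
  have := D.node hπ i
  have := hle i
  omega

/-- if the homomorphism of index `p` lives at `x^β`, every generator below `β` sees it -/
theorem Labelling.consistent (D : Labelling I G π) {p : P} {β : σ →₀ ℕ} (h : Active G π p β)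
    (hγ : shift β (D.alpha p) ∉ exps I) {g : ι} (hg : G g ≤ β) : ∃ μ, π g μ = some p := by
  obtain ⟨g₁, μ₁, h1, hle⟩ := h
  set γ₀ := μ₁ + (G g - G g₁) with hγ₀
  have hle0 : γ₀ ≤ shift β (D.alpha p) := fun i => by
    have := D.node h1 i
    have := hle i
    have := hg i
    simp only [hγ₀, Finsupp.add_apply, Finsupp.tsub_apply, shift, Finsupp.coe_equivFunOnFinite_symm]
    omega
  have hstd : γ₀ ∉ exps I := fun hm => hγ (HilbTgtLib.exps_mono I hm hle0)
  have := D.rel g₁ g γ₀ hstd
  rw [along, if_pos (by rw [hγ₀]; exact le_add_self), hγ₀, add_tsub_cancel_right, h1, along] at this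
  split_ifs at this with h2
  exact ⟨_, this.symm⟩

open Classical in
noncomputable def Labelling.fn (D : Labelling I G π) (p : P) (β : σ →₀ ℕ) : MvPolynomial σ k ⧸ I :=
  if Active G π p β then Ideal.Quotient.mk I (monomial (shift β (D.alpha p)) 1) else 0

include hI in
theorem Labelling.fn_step (D : Labelling I G π) (p : P) (β : σ →₀ ℕ) (hβ : β ∈ exps I) (i : σ) :
    D.fn p (β + Finsupp.single i 1) = Ideal.Quotient.mk I (X i) * D.fn p β := by
  classical
  by_cases h : Active G π p β
  · have h' : Active G π p (β + Finsupp.single i 1) := by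
      obtain ⟨g, μ, h1, h2⟩ := h
      exact ⟨g, μ, h1, h2.trans le_self_add⟩
    rw [Labelling.fn, if_pos h', Labelling.fn, if_pos h, ← map_mul, X, monomial_mul, one_mul]
    refine congrArg (fun e => Ideal.Quotient.mk I (monomial e 1)) (Finsupp.ext fun j => ?_)
    have := D.active_shift h j
    simp only [shift, Finsupp.coe_equivFunOnFinite_symm, Finsupp.add_apply, Nat.cast_add]
    omega
  · rw [Labelling.fn, Labelling.fn, if_neg h, mul_zero]
    split_ifs with h'
    · rw [Ideal.Quotient.eq_zero_iff_mem]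
      by_contra hm
      obtain ⟨g, hg⟩ := (exps_iff I G hI β).1 hβ
      obtain ⟨μ, hμ⟩ := D.consistent h' hm (hg.trans le_self_add)
      exact h ⟨g, μ, hμ, hg⟩
    · rfl

noncomputable def Labelling.basisHom (D : Labelling I G π) (p : P) : Tgt I :=
  mkTgt (isMonomial I G hI) (D.fn_step hI p)

theorem Labelling.basisHom_mem (D : Labelling I G π) (p : P) : D.basisHom hI p ∈ hom0 I := by
  classical
  refine Submodule.mem_iSup_of_mem ⟨D.alpha p, D.alpha_sum p⟩ ?_
  intro β hβ
  rw [Labelling.basisHom, mkTgt_monomial, Labelling.fn]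
  refine ⟨fun _ => ?_, fun hneg => ?_⟩
  · split_ifs
    · exact Submodule.subset_span rfl
    · exact Submodule.zero_mem _
  · rw [if_neg]
    intro h
    obtain ⟨i, hi⟩ := hneg
    have := D.active_shift h i
    exact absurd this (not_le.2 hi)

theorem Labelling.coef_basisHom [DecidableEq P] (D : Labelling I G π) (p q : P) :
    coef I G hI (D.rep q).1 (D.rep q).2 (D.basisHom hI p) = if p = q then 1 else 0 := by
  classical
  rw [coef_of I G hI _ (D.rep_std q), Labelling.basisHom, mkTgt_monomial, Labelling.fn]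
  by_cases hpq : p = q
  · subst hpq
    rw [if_pos rfl, if_pos ⟨_, _, D.rep_eq p, le_rfl⟩, HilbTgtLib.qcoeff_mk, coeff_monomial, if_pos]
    exact Finsupp.ext fun i => by
      have := D.node (D.rep_eq p) i
      simp only [shift, Finsupp.coe_equivFunOnFinite_symm]
      omega
  · rw [if_neg hpq]
    split_ifs with h
    · rw [HilbTgtLib.qcoeff_mk, coeff_monomial, if_neg]
      intro e
      obtain ⟨μ, hμ⟩ := D.consistent h (e ▸ D.rep_std q) (le_refl (G (D.rep q).1))
      have : μ = (D.rep q).2 := by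
        rw [← e]
        exact Finsupp.ext fun i => by
          have := D.node hμ i
          simp only [shift, Finsupp.coe_equivFunOnFinite_symm]
          omega
      rw [this, D.rep_eq q] at hμ
      exact hpq (Option.some.inj hμ).symm
    · rw [map_zero]

include hI in
theorem Labelling.finrank_eq [Fintype P] (D : Labelling I G π) :
    Module.finrank k ↥(hom0 I) = Fintype.card P := by
  classical
  let E : ↥(hom0 I) →ₗ[k] (P → k) := LinearMap.pi fun p => (coef I G hI (D.rep p).1 (D.rep p).2).comp (hom0 I).subtype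
  have hinj : Function.Injective E := by
    rw [injective_iff_map_eq_zero]
    intro φ hφ
    apply Subtype.ext
    refine eq_zero_of_coef I G hI fun g μ => ?_
    by_cases hμ : μ ∈ exps I
    · exact coef_not I G hI g hμ _
    by_cases hd : μ.degree = (G g).degree
    swap
    · exact coef_degree I G hI φ.2 hd
    have := D.sol _ (isSol I G hI φ.2) g μ hμ hd
    rw [this]
    cases π g μ with
    | none => rfl
    | some p => exact congrFun hφ p
  have hsurj : Function.Surjective E := by
    intro f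
    refine ⟨∑ p, f p • ⟨D.basisHom hI p, D.basisHom_mem hI p⟩, funext fun q => ?_⟩
    simp [E, D.coef_basisHom hI]
  rw [(LinearEquiv.ofBijective E ⟨hinj, hsurj⟩).finrank_eq, Module.finrank_fintype_fun_eq_card]

end Gen

end Hom0Lib
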