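import Groth.Agent.Hom0Lib.TwoBlock

/-! The coefficients of the first block of a two-block ideal on monomials free of `x₀`. -/

set_option linter.unusedSectionVars false
set_option linter.style.haveILetI false

namespace Hom0Lib.TwoBlock

variable {n q m : ℕ} (k : Type*) [Zero k]

/-- variables other than `x₀`, as exponent vectors -/
abbrev LT (n : ℕ) := {ν : Fin (n + 1) →₀ ℕ // ν.degree = 1 ∧ ν 0 = 0}

/-- variables other than `x₀, x₁`, as exponent vectors -/
abbrev LT' (n : ℕ) := {ν : Fin (n + 1) →₀ ℕ // ν.degree = 1 ∧ ν 0 = 0 ∧ ν 1 = 0}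

abbrev ET (n q m : ℕ) := {_u : Unit // q = 1 ∧ m + 2 = n}

theorem link {k : Type*} [Zero k] {c : Fin (n + 1) → (Fin (n + 1) →₀ ℕ) → k}
    (hc : ∀ i j : Fin (n + 1), i.val + 1 ≤ n → j.val + 1 ≤ n → i ≠ j → ∀ γ, Free n q m γ →
      (if e j ≤ γ then c i (γ - e j) else 0) = (if e i ≤ γ then c j (γ - e i) else 0))
    {i j : Fin (n + 1)} (hi : i.val + 1 ≤ n) (hj : j.val + 1 ≤ n) (hij : i ≠ j) {μ : Fin (n + 1) →₀ ℕ}
    (hf : Free n q m (μ + e j)) : c i μ = if e i ≤ μ then c j (μ - e i + e j) else 0 := by
  classical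
  have := hc i j hi hj hij _ hf
  rw [if_pos le_add_self, add_tsub_cancel_right] at this
  rw [this]
  by_cases h : e i ≤ μ
  · rw [if_pos h, if_pos (h.trans le_self_add), tsub_add_eq_add_tsub h]
  · rw [if_neg h, if_neg]
    exact fun h' => h fun t => by
      have := h' t
      rcases eq_or_ne t j with rfl | ht
      · simp [hij]
      · simpa [ht] using this

theorem free_small (hm : 2 ≤ m) (hmn : m < n) (hq : 1 ≤ q) {ν : Fin (n + 1) →₀ ℕ} (hd : ν.degree = 1) (h0 : ν 0 = 0) :
    Free n q m ν := by
  refine ⟨h0, ?_⟩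
  obtain ⟨l, rfl⟩ := exists_of_degree_one hd
  rcases eq_or_ne l 1 with rfl | hl
  · rcases hq.lt_or_eq with hq | hq
    · exact Or.inl (by simpa using hq)
    · refine Or.inr ⟨by simpa using hq, fun t a b => ?_⟩
      have h1 := one_val hm hmn
      have : t ≠ 1 := fun h => by subst h; omega
      simp [this]
  · exact Or.inl (by simp [hl.symm]; omega)

section High

variable (hm : 2 ≤ m) (hhigh : m + 1 < n)
include hm hhigh

/-- the index `n - 1` -/
def pen : IA n := ⟨⟨n - 1, by omega⟩, by simp; omega⟩

theorem pen_ne : (pen hm hhigh).1 ≠ 0 ∧ (pen hm hhigh).1 ≠ 1 ∧ (pen hm hhigh).1 ≠ Fin.last n ∧ (pen hm hhigh).1.val = n - 1 := by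
  have h1 := one_val hm (show m < n by omega)
  refine ⟨fun h => ?_, fun h => ?_, fun h => ?_, rfl⟩ <;> have := congrArg Fin.val h <;> (try simp only [h1] at this) <;> simp [pen] at this <;> omega

open Classical in
noncomputable def highA (i : Fin (n + 1)) (μ : Fin (n + 1) →₀ ℕ) : Option (LT n ⊕ ET n q m) :=
  if h : μ.degree = 2 ∧ μ 0 = 0 ∧ 1 ≤ i.val ∧ e i ≤ μ then
    some (.inl ⟨μ - e i, by
      have := degree_sub h.2.2.2
      have h0 := (tsub_le_self : μ - e i ≤ μ) 0
      simp at this
      exact ⟨by omega, by omega⟩⟩)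
  else if h : q = 1 ∧ m + 2 = n ∧ i = (pen hm hhigh).1 ∧ μ = e 1 + e (Fin.last n) then
    some (.inr ⟨(), h.1, h.2.1⟩)
  else none

noncomputable def highRep : LT n ⊕ ET n q m → IA n × (Fin (n + 1) →₀ ℕ)
  | .inl ν => (pen hm hhigh, e (pen hm hhigh).1 + ν.1)
  | .inr _ => (pen hm hhigh, e 1 + e (Fin.last n))

noncomputable def highPart (hq : 1 ≤ q) (hcase : m + 2 < n ∨ q = 1 ∨ 3 ≤ q) : APart n q m (LT n ⊕ ET n q m) k where
  pA := highA hm hhigh
  repA := highRep hm hhigh
  deg i μ p h := by
    rw [highA] at h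
    split_ifs at h with c1 c2
    · exact ⟨c1.1, c1.2.1⟩
    · obtain ⟨-, -, -, rfl⟩ := c2
      exact ⟨by simp, by simp [(one_ne_zero' hm (show m < n by omega)).symm, (last_ne hm (show m < n by omega)).1.symm]⟩
  mult i μ p h := by
    rw [highA] at h
    split_ifs at h with c1 c2
    · cases h
      simp only [highRep]
      have := tsub_add_cancel_of_le c1.2.2.2
      generalize μ - e i = ν at this ⊢
      subst this
      abel
    · cases h
      obtain ⟨-, -, rfl, rfl⟩ := c2
      rfl
  rep_eq p := by
    obtain ⟨p0, p1, pl, pv⟩ := pen_ne hm hhigh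
    rcases p with ν | u
    · rw [highA, dif_pos ⟨by simp [highRep, ν.2.1], by simp [highRep, p0.symm, ν.2.2], by simp [highRep]; omega, le_self_add⟩]
      simp [highRep]
    · rw [highA, dif_neg, dif_pos ⟨u.2.1, u.2.2, rfl, rfl⟩]
      rintro ⟨-, -, -, h⟩
      have := h (pen hm hhigh).1
      simp [highRep, p1, pl] at this
  rep_free p := by
    obtain ⟨p0, p1, pl, pv⟩ := pen_ne hm hhigh
    rcases p with ν | ⟨-, hq1, -⟩
    · simp only [highRep]
      rw [add_comm]
      exact (free_small hm (by omega) hq ν.2.1 ν.2.2).add hm (by omega) (by omega)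
    · refine (free_small (ν := e 1) hm (by omega) hq (by simp) ?_).add hm (by omega) (by simp; omega)
      simp [(one_ne_zero' hm (show m < n by omega)).symm]
  rel i j hi hj hij γ hf := by
    classical
    have key : ∀ i j : Fin (n + 1), i.val + 1 ≤ n → j.val + 1 ≤ n → i ≠ j →
        (if e j ≤ γ then highA (q := q) hm hhigh i (γ - e j) else none) =
          if h : γ.degree = 3 ∧ 1 ≤ i.val ∧ 1 ≤ j.val ∧ e i + e j ≤ γ then
            some (.inl ⟨γ - (e i + e j), by
              have := degree_sub h.2.2.2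
              have h0 := (tsub_le_self : γ - (e i + e j) ≤ γ) 0
              simp at this
              exact ⟨by omega, by have := hf.1; omega⟩⟩) else none := by
      intro i j hi hj hij
      have hsum : e i + e j ≤ γ → e j ≤ γ ∧ e i ≤ γ - e j := fun h =>
        ⟨le_trans le_add_self h, fun t => by have := h t; simp at this ⊢; omega⟩
      by_cases hle : e j ≤ γ
      swap
      · rw [if_neg hle, dif_neg fun h => hle (hsum h.2.2.2).1]
      have hj0 : 1 ≤ j.val := Nat.one_le_iff_ne_zero.2 fun h => by
        have := hle j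
        rw [show j = 0 from Fin.ext h, hf.1] at this
        simp at this
      have hd := degree_sub hle
      simp at hd
      have hμ0 : (γ - e j) 0 = 0 := Nat.eq_zero_of_le_zero (((tsub_le_self : γ - e j ≤ γ) 0).trans hf.1.le)
      rw [if_pos hle, highA]
      by_cases hc : (γ - e j).degree = 2 ∧ (γ - e j) 0 = 0 ∧ 1 ≤ i.val ∧ e i ≤ γ - e j
      · have hc' : γ.degree = 3 ∧ 1 ≤ i.val ∧ 1 ≤ j.val ∧ e i + e j ≤ γ :=
          ⟨by omega, hc.2.2.1, hj0, (add_le_add_left hc.2.2.2 _).trans (tsub_add_cancel_of_le hle).le⟩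
        rw [dif_pos hc, dif_pos hc']
        congr 2
        apply Subtype.ext
        show γ - e j - e i = γ - (e i + e j)
        rw [tsub_tsub, add_comm (e j)]
      · rw [dif_neg hc, dif_neg, dif_neg fun h => hc ⟨by omega, hμ0, h.2.1, (hsum h.2.2.2).2⟩]
        rintro ⟨hq1, hn2, rfl, he⟩
        have hjm : j.val ≤ m := by
          by_contra hc'
          exact hij (Fin.ext (by simp [pen]; omega))
        refine hf.not_block hm (by omega) hj0 hjm ?_
        rw [hq1, one_smul]
        calc e 1 + e j ≤ (e 1 + e (Fin.last n)) + e j := add_le_add_left le_self_add _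
          _ = γ := by rw [← he, tsub_add_cancel_of_le hle]
    rw [key i j hi hj hij, key j i hj hi hij.symm]
    simp only [add_comm (e j) (e i), and_left_comm (a := 1 ≤ j.val)]
  zero0 i hi1 hi := by
    have hl := last_ne hm (show m < n by omega)
    have il : i ≠ Fin.last n := fun h => by subst h; simp at hi
    rw [highA, dif_neg, dif_neg]
    · rintro ⟨-, -, -, h⟩
      have := DFunLike.congr_fun h 1
      simp [hl.2.symm] at this
    · rintro ⟨-, -, -, h⟩
      have := h i
      simp [il] at this
  zero1 j hj2 hjm γ hf hle := by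
    have h1 := one_val hm (show m < n by omega)
    have nj : j ≠ (1 : Fin (n + 1)) := fun h => by subst h; omega
    rw [highA, dif_neg, dif_neg]
    · rintro ⟨-, -, h, -⟩
      exact (pen_ne hm hhigh).2.1 h.symm
    · rintro ⟨-, -, -, h⟩
      refine hf.not_block hm (by omega) (by omega) hjm fun t => ?_
      have a := h t
      have b := hle t
      rcases eq_or_ne t 1 with rfl | ht
      · simp [nj.symm] at a b ⊢; omega
      · simpa [ht] using b
  zero2 j hj1 hjm γ hf hle := by
    rw [highA, dif_neg, dif_neg]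
    · rintro ⟨-, -, h, -⟩
      have := congrArg Fin.val h
      simp [pen] at this
      omega
    · rintro ⟨-, -, -, h⟩
      exact hf.not_block hm (by omega) hj1 hjm ((add_le_add_right h _).trans (add_tsub_cancel_of_le hle).le)
  solA c hc i hi μ hf hd := by
    classical
    obtain ⟨p0, p1, pl, pv⟩ := pen_ne hm hhigh
    have hmn : m < n := by omega
    have h1 := one_val hm hmn
    rw [highA]
    by_cases hL : μ.degree = 2 ∧ μ 0 = 0 ∧ 1 ≤ i.val ∧ e i ≤ μ
    · rw [dif_pos hL]
      simp only [Option.elim_some, highRep]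
      rcases eq_or_ne i (pen hm hhigh).1 with rfl | hne
      · rw [add_tsub_cancel_of_le hL.2.2.2]
      · rw [link hc hi (pen hm hhigh).2 hne (hf.add hm hmn (by omega)), if_pos hL.2.2.2, add_comm (μ - e i)]
    rw [dif_neg hL]
    have hz : ¬ e i ≤ μ := by
      intro h
      refine hL ⟨hd, hf.1, Nat.one_le_iff_ne_zero.2 fun h0 => ?_, h⟩
      have := h i
      rw [show i = 0 from Fin.ext h0, hf.1] at this
      simp at this
    by_cases hE : q = 1 ∧ m + 2 = n ∧ i = (pen hm hhigh).1 ∧ μ = e 1 + e (Fin.last n)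
    · rw [dif_pos hE]
      obtain ⟨-, -, rfl, rfl⟩ := hE
      rfl
    rw [dif_neg hE, Option.elim_none]
    obtain ⟨j, hj, hne, hfree⟩ : ∃ j : Fin (n + 1), j.val + 1 ≤ n ∧ i ≠ j ∧ Free n q m (μ + e j) := by
      rcases eq_or_ne i (pen hm hhigh).1 with rfl | hne
      swap
      · exact ⟨_, (pen hm hhigh).2, hne, hf.add hm hmn (by omega)⟩
      by_cases hr : m + 2 < n
      · exact ⟨⟨n - 2, by omega⟩, by simp; omega, fun h => by have := congrArg Fin.val h; simp [pen] at this; omega,
          hf.add hm hmn (by simp; omega)⟩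
      have one : ((1 : Fin (n + 1)) : ℕ) + 1 ≤ n := by omega
      rcases hcase with h | hq1 | hq3
      · omega
      · subst hq1
        by_cases hk : ∃ l : Fin (n + 1), 2 ≤ l.val ∧ l.val ≤ m ∧ 1 ≤ μ l
        · obtain ⟨l, a, b, hl⟩ := hk
          have n1 : (1 : Fin (n + 1)) ≠ l := fun h => by subst h; omega
          have n0 : (0 : Fin (n + 1)) ≠ l := fun h => by subst h; simp at a
          refine ⟨l, by omega, fun h => by subst h; omega, by simp [n0, hf.1], ?_⟩
          rcases hf.2 with h | ⟨-, h⟩
          · exact Or.inl (by simpa [n1] using h)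
          · have := h l a b; omega
        · push Not at hk
          refine ⟨1, one, p1, by simp [(one_ne_zero' hm hmn).symm, hf.1], Or.inr ⟨?_, fun l a b => ?_⟩⟩
          · simp only [Finsupp.add_apply, Finsupp.single_eq_same]
            by_contra h
            have hμ1 : μ 1 = 1 := by rcases hf.2 with h' | ⟨h', -⟩ <;> omega
            refine hE ⟨rfl, by omega, rfl, ?_⟩
            have hle1 : e 1 ≤ μ := Finsupp.single_le_iff.2 hμ1.ge
            have hdd := degree_sub hle1
            simp [hd] at hdd
            rw [← add_tsub_cancel_of_le hle1, single_eq_of_zero (μ := μ - e 1) (d := 1) (by omega) fun l hl => ?_]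
            rcases eq_or_ne l 1 with rfl | hl1
            · simp [hμ1]
            rw [Finsupp.tsub_apply, Finsupp.single_eq_of_ne hl1, Nat.sub_zero]
            by_contra hl0
            have l0 : l.val ≠ 0 := fun hh => hl0 (by rw [show l = 0 from Fin.ext hh]; exact hf.1)
            have lv : l.val ≠ 1 := fun hh => hl1 (Fin.ext (by omega))
            by_cases hlm : l.val ≤ m
            · have := hk l (by omega) hlm; omega
            · apply hz
              rw [show (pen hm hhigh).1 = l from Fin.ext (by simp [pen]; omega)]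
              exact Finsupp.single_le_iff.2 (Nat.one_le_iff_ne_zero.2 hl0)
          · have : l ≠ 1 := fun h => by subst h; omega
            have := hk l a b
            simp [*]
            omega
      · have t1 : (1 : Fin (n + 1)) ≠ (two hm hmn).1 := fun h => by
          have := congrArg Fin.val h; rw [h1] at this; simp [two] at this
        have t0 : (0 : Fin (n + 1)) ≠ (two hm hmn).1 := fun h => by
          have := congrArg Fin.val h; simp [two] at this
        refine ⟨(two hm hmn).1, by simp [two]; omega, fun h => by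
          have := congrArg Fin.val h; simp [pen, two] at this; omega, by simp [t0, hf.1], Or.inl ?_⟩
        have := Finsupp.le_degree 1 μ
        simp [t1]
        omega
    rw [link hc hi hj hne hfree, if_neg hz]

end High

section Low

open Classical in
noncomputable def lowA (i : Fin (n + 1)) (μ : Fin (n + 1) →₀ ℕ) : Option (LT' n ⊕ IA n) :=
  if h : i.val + 1 ≤ n ∧ μ = e 1 + e (Fin.last n) then some (.inr ⟨i, h.1⟩)
  else if h : μ.degree = 2 ∧ μ 0 = 0 ∧ μ 1 = 0 ∧ 1 ≤ i.val ∧ e i ≤ μ then
    some (.inl ⟨μ - e i, by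
      have := degree_sub h.2.2.2.2
      have h0 := (tsub_le_self : μ - e i ≤ μ) 0
      have h1 := (tsub_le_self : μ - e i ≤ μ) 1
      simp at this
      exact ⟨by omega, by omega, by omega⟩⟩)
  else none

variable (hm : 2 ≤ m) (hlow : m + 1 = n)
include hm hlow

noncomputable def lowRep : LT' n ⊕ IA n → IA n × (Fin (n + 1) →₀ ℕ)
  | .inl ν => (⟨(two hm (show m < n by omega)).1, by simp [two]; omega⟩, e (two hm (show m < n by omega)).1 + ν.1)
  | .inr i => (i, e 1 + e (Fin.last n))

theorem two_ne : (two hm (show m < n by omega)).1 ≠ 0 ∧ (two hm (show m < n by omega)).1 ≠ 1 := by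
  have h1 := one_val hm (show m < n by omega)
  refine ⟨fun h => ?_, fun h => ?_⟩ <;> have := congrArg Fin.val h <;> (try simp only [h1] at this) <;> simp [two] at this <;> omega

noncomputable def lowPart (hq : q = 1) : APart n q m (LT' n ⊕ IA n) k where
  pA := lowA
  repA := lowRep hm hlow
  deg i μ p h := by
    rw [lowA] at h
    split_ifs at h with c1 c2
    · obtain ⟨-, rfl⟩ := c1
      exact ⟨by simp, by simp [(one_ne_zero' hm (show m < n by omega)).symm, (last_ne hm (show m < n by omega)).1.symm]⟩
    · exact ⟨c2.1, c2.2.1⟩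
  mult i μ p h := by
    rw [lowA] at h
    split_ifs at h with c1 c2
    · cases h
      obtain ⟨-, rfl⟩ := c1
      rfl
    · cases h
      simp only [lowRep]
      rw [add_assoc, tsub_add_cancel_of_le c2.2.2.2.2, add_comm μ]
  rep_eq p := by
    obtain ⟨t0, t1⟩ := two_ne hm hlow
    rcases p with ν | i
    · rw [lowA, dif_neg, dif_pos ⟨by simp [lowRep, ν.2.1], by simp [lowRep, t0.symm, ν.2.2.1],
        by simp [lowRep, t1.symm, ν.2.2.2], by simp [lowRep, two], le_self_add⟩]
      · simp [lowRep]
      · rintro ⟨-, h⟩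
        have := DFunLike.congr_fun h 1
        simp [lowRep, t1.symm, ν.2.2.2, (last_ne hm (show m < n by omega)).2.symm] at this
    · rw [lowA, dif_pos ⟨i.2, rfl⟩]
      rfl
  rep_free p := by
    obtain ⟨t0, t1⟩ := two_ne hm hlow
    rcases p with ν | i
    · exact ⟨by simp [lowRep, t0.symm, ν.2.2.1], Or.inl (by simp [lowRep, t1.symm, ν.2.2.2, hq])⟩
    · refine (free_small (ν := e 1) hm (by omega) hq.ge (by simp) ?_).add hm (by omega) (by simp; omega)
      simp [(one_ne_zero' hm (show m < n by omega)).symm]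
  rel i j hi hj hij γ hf := by
    classical
    have h1 := one_val hm (show m < n by omega)
    have key : ∀ i j : Fin (n + 1), i.val + 1 ≤ n → j.val + 1 ≤ n → i ≠ j →
        (if e j ≤ γ then lowA i (γ - e j) else none) =
          if h : γ.degree = 3 ∧ γ 1 = 0 ∧ 1 ≤ i.val ∧ 1 ≤ j.val ∧ e i + e j ≤ γ then
            some (.inl ⟨γ - (e i + e j), by
              have := degree_sub h.2.2.2.2
              have h0 := (tsub_le_self : γ - (e i + e j) ≤ γ) 0
              have h1 := (tsub_le_self : γ - (e i + e j) ≤ γ) 1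
              simp at this
              exact ⟨by omega, by have := hf.1; omega, by omega⟩⟩) else none := by
      intro i j hi hj hij
      have hsum : e i + e j ≤ γ → e j ≤ γ ∧ e i ≤ γ - e j := fun h =>
        ⟨le_trans le_add_self h, fun t => by have := h t; simp at this ⊢; omega⟩
      by_cases hle : e j ≤ γ
      swap
      · rw [if_neg hle, dif_neg fun h => hle (hsum h.2.2.2.2).1]
      have hj0 : 1 ≤ j.val := Nat.one_le_iff_ne_zero.2 fun h => by
        have := hle j
        rw [show j = 0 from Fin.ext h, hf.1] at this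
        simp at this
      have hd := degree_sub hle
      simp at hd
      have hμ0 : (γ - e j) 0 = 0 := Nat.eq_zero_of_le_zero (((tsub_le_self : γ - e j ≤ γ) 0).trans hf.1.le)
      rw [if_pos hle, lowA, dif_neg]
      swap
      · rintro ⟨-, he⟩
        refine hf.not_block hm (by omega) hj0 (by omega) ?_
        rw [hq, one_smul]
        calc e 1 + e j ≤ (e 1 + e (Fin.last n)) + e j := add_le_add_left le_self_add _
          _ = γ := by rw [← he, tsub_add_cancel_of_le hle]
      by_cases hc : (γ - e j).degree = 2 ∧ (γ - e j) 0 = 0 ∧ (γ - e j) 1 = 0 ∧ 1 ≤ i.val ∧ e i ≤ γ - e j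
      · have hsum' : e i + e j ≤ γ := (add_le_add_left hc.2.2.2.2 _).trans (tsub_add_cancel_of_le hle).le
        have hγ1 : γ 1 = 0 := by
          rcases eq_or_ne j 1 with rfl | hj1
          · exfalso
            refine hf.not_block hm (by omega) hc.2.2.2.1 (by omega) ?_
            rw [hq, one_smul, add_comm (e 1)]
            exact hsum'
          · simpa [hj1.symm] using hc.2.2.1
        rw [dif_pos hc, dif_pos ⟨by omega, hγ1, hc.2.2.2.1, hj0, hsum'⟩]
        congr 2
        apply Subtype.ext
        show γ - e j - e i = γ - (e i + e j)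
        rw [tsub_tsub, add_comm (e j)]
      · rw [dif_neg hc, dif_neg fun h => hc ⟨by omega, hμ0, Nat.eq_zero_of_le_zero (((tsub_le_self : γ - e j ≤ γ) 1).trans h.2.1.le),
          h.2.2.1, (hsum h.2.2.2.2).2⟩]
    rw [key i j hi hj hij, key j i hj hi hij.symm]
    simp only [add_comm (e j) (e i), and_left_comm (a := 1 ≤ j.val)]
  zero0 i hi1 hi := by
    have hl := last_ne hm (show m < n by omega)
    have il : i ≠ Fin.last n := fun h => by subst h; simp at hi
    rw [lowA, dif_neg, dif_neg]
    · rintro ⟨-, -, -, -, h⟩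
      have := h i
      simp [il] at this
    · rintro ⟨-, h⟩
      have := DFunLike.congr_fun h 1
      simp [hl.2.symm] at this
  zero1 j hj2 hjm γ hf hle := by
    rw [lowA, dif_neg, dif_neg]
    · rintro ⟨-, -, h, -, h'⟩
      have := h' 1
      simp at this h
      omega
    · rintro ⟨-, h⟩
      refine hf.not_block hm (by omega) (by omega) hjm ?_
      have e1 := tsub_add_cancel_of_le hle
      rw [h] at e1
      rw [← e1, hq]
      simp only [Nat.sub_self, zero_smul, zero_add, one_smul]
      exact add_le_add_left le_self_add _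
  zero2 j hj1 hjm γ hf hle := by
    rw [lowA, dif_neg, dif_neg]
    · rintro ⟨-, -, -, -, h⟩
      exact hf.not_block hm (by omega) hj1 hjm ((add_le_add_right h _).trans (add_tsub_cancel_of_le hle).le)
    · rintro ⟨-, h⟩
      have h1 := one_val hm (show m < n by omega)
      refine hf.not_block hm (by omega) (j := 1) (by omega) (by omega) ?_
      have e1 := tsub_add_cancel_of_le hle
      rw [h] at e1
      rw [← e1, hq, one_smul]
      exact add_le_add_left le_self_add _
  solA c hc i hi μ hf hd := by
    classical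
    have hmn : m < n := by omega
    have h1 := one_val hm hmn
    obtain ⟨t0, t1⟩ := two_ne hm hlow
    rw [lowA]
    by_cases hE : i.val + 1 ≤ n ∧ μ = e 1 + e (Fin.last n)
    · rw [dif_pos hE]
      obtain ⟨-, rfl⟩ := hE
      rfl
    rw [dif_neg hE]
    have hμ1 : μ 1 = 0 := by
      rcases hf.2 with h | ⟨h, hk⟩
      · omega
      exfalso
      refine hE ⟨hi, ?_⟩
      have hle1 : e 1 ≤ μ := Finsupp.single_le_iff.2 (by omega)
      have hdd := degree_sub hle1
      simp [hd] at hdd
      rw [← add_tsub_cancel_of_le hle1, single_eq_of_zero (μ := μ - e 1) (d := 1) (by omega) fun l hl => ?_]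
      rcases eq_or_ne l 1 with rfl | hl1
      · simp [h, hq]
      rw [Finsupp.tsub_apply, Finsupp.single_eq_of_ne hl1, Nat.sub_zero]
      rcases Nat.eq_zero_or_pos l.val with h0 | h0
      · rw [show l = 0 from Fin.ext h0]; exact hf.1
      · exact hk l (by have : l.val ≠ 1 := fun hh => hl1 (Fin.ext (by omega)); omega) (by omega)
    have addfree : ∀ l : Fin (n + 1), l ≠ 0 → l ≠ 1 → Free n q m (μ + e l) := fun l a b =>
      ⟨by simp [a.symm, hf.1], Or.inl (by simp [b.symm, hμ1, hq])⟩
    by_cases hz : e i ≤ μ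
    · have hi0 : 1 ≤ i.val := Nat.one_le_iff_ne_zero.2 fun h => by
        have := hz i
        rw [show i = 0 from Fin.ext h, hf.1] at this
        simp at this
      rw [dif_pos ⟨hd, hf.1, hμ1, hi0, hz⟩]
      simp only [Option.elim_some, lowRep]
      rcases eq_or_ne i (two hm hmn).1 with rfl | hne
      · rw [add_tsub_cancel_of_le hz]
      · rw [link hc hi (show (two hm hmn).1.val + 1 ≤ n by simp [two]; omega) hne (addfree _ t0 t1), if_pos hz, add_comm (μ - e i)]
    rw [dif_neg fun h => hz h.2.2.2.2, Option.elim_none]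
    obtain ⟨j, hj, hne, hfree⟩ : ∃ j : Fin (n + 1), j.val + 1 ≤ n ∧ i ≠ j ∧ Free n q m (μ + e j) := by
      by_cases hk : ∃ l : Fin (n + 1), 2 ≤ l.val ∧ l.val ≤ m ∧ 1 ≤ μ l
      · obtain ⟨l, a, b, hl⟩ := hk
        exact ⟨l, by omega, fun h => hz (h ▸ Finsupp.single_le_iff.2 hl),
          addfree l (fun h => by subst h; simp at a) (fun h => by subst h; omega)⟩
      push Not at hk
      rcases eq_or_ne i 1 with rfl | hi1
      · exact ⟨(two hm hmn).1, by simp [two]; omega, t1.symm, addfree _ t0 t1⟩
      · refine ⟨1, by omega, hi1, by simp [(one_ne_zero' hm hmn).symm, hf.1], Or.inr ⟨by simp [hμ1, hq], fun l a b => ?_⟩⟩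
        have : l ≠ 1 := fun h => by subst h; omega
        have := hk l a b
        simp [*]
        omega
    rw [link hc hi hj hne hfree, if_neg hz]

end Low

theorem card_ET : Nat.card (ET n q m) = if q = 1 ∧ m + 2 = n then 1 else 0 := by
  split_ifs with h
  · rw [Nat.card_congr (⟨fun _ => (), fun _ => ⟨(), h⟩, fun _ => Subsingleton.elim _ _, fun _ => rfl⟩ : ET n q m ≃ Unit),
      Nat.card_unique]
  · haveI : IsEmpty (ET n q m) := ⟨fun x => h x.2⟩
    exact Nat.card_of_isEmpty

theorem card_LT : Nat.card (LT n) = n := by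
  let f : Fin n → LT n := fun x => ⟨e x.succ, by simp, by simp [Fin.succ_ne_zero x |>.symm]⟩
  refine (Nat.card_congr (Equiv.ofBijective f ⟨fun x y h => ?_, fun ν => ?_⟩).symm).trans (Nat.card_fin _)
  · exact Fin.succ_injective _ (Finsupp.single_left_injective one_ne_zero (congrArg (fun ν : LT n => ν.1) h))
  · obtain ⟨ν, hd, h0⟩ := ν
    obtain ⟨l, rfl⟩ := exists_of_degree_one hd
    obtain ⟨x, rfl⟩ := Fin.exists_succ_eq.2 (show l ≠ 0 from fun h => by subst h; simp at h0)
    exact ⟨x, rfl⟩

theorem card_LT' (hm : 2 ≤ m) (hmn : m < n) : Nat.card (LT' n) = n - 1 := by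
  have h1 := one_val hm hmn
  let f : Fin (n - 1) → LT' n := fun x => ⟨e ⟨x.val + 2, by omega⟩, by simp, by
    simp [Fin.ext_iff], by
    have : (1 : Fin (n + 1)) ≠ ⟨x.val + 2, by omega⟩ := fun h => by have := congrArg Fin.val h; rw [h1] at this; simp at this
    simp [this]⟩
  refine (Nat.card_congr (Equiv.ofBijective f ⟨fun x y h => ?_, fun ν => ?_⟩).symm).trans (Nat.card_fin _)
  · have := congrArg Fin.val (Finsupp.single_left_injective one_ne_zero (congrArg (fun ν : LT' n => ν.1) h))
    simp at this
    exact Fin.ext this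
  · obtain ⟨ν, hd, h0, hν1⟩ := ν
    obtain ⟨l, rfl⟩ := exists_of_degree_one hd
    have l0 : l.val ≠ 0 := fun h => by rw [show l = 0 from Fin.ext h] at h0; simp at h0
    have l1 : l.val ≠ 1 := fun h => by rw [show l = 1 from Fin.ext (by omega)] at hν1; simp at hν1
    refine ⟨⟨l.val - 2, by omega⟩, Subtype.ext ?_⟩
    show e _ = Finsupp.single l 1
    congr 1
    exact Fin.ext (by simp; omega)

end Hom0Lib.TwoBlock
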