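import Groth.Agent.Hom0Lib.APart

/-! Degree zero homomorphisms for the ideals `x₀(x₀,…,x_{n-1}) + (x₁^q)`. -/

set_option linter.unusedSectionVars false
set_option linter.style.haveILetI false

namespace Hom0Lib.Hyper

open MvPolynomial W4c1hilbpn
open Hom0Lib.TwoBlock (e IA LT RT degree_sub eq_of_le_of_degree single_eq_of_zero ne_T val_one)

variable {n q : ℕ}

variable (n q) in
noncomputable def G : IA n ⊕ Unit → Fin (n + 1) →₀ ℕ :=
  Sum.elim (fun i => e 0 + e i.1) fun _ => q • e 1

theorem span_eq {k : Type*} [Field k] (n q : ℕ) :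
    Ideal.span ({f : MvPolynomial (Fin (n + 1)) k | ∃ i : Fin (n + 1), i.val + 1 ≤ n ∧ f = X 0 * X i} ∪
        {(X 1 : MvPolynomial (Fin (n + 1)) k) ^ q}) =
      Ideal.span (Set.range fun g => monomial (G n q g) (1 : k)) := by
  have eA : ∀ i : Fin (n + 1), (X 0 * X i : MvPolynomial (Fin (n + 1)) k) = monomial (e 0 + e i) 1 := fun i => by
    rw [X, X, monomial_mul, one_mul]
  have eB : (X 1 ^ q : MvPolynomial (Fin (n + 1)) k) = monomial (q • e 1) 1 := by
    rw [X, monomial_pow, one_pow]
  refine congrArg Ideal.span (Set.ext fun f => ?_)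
  constructor
  · rintro (⟨i, hi, rfl⟩ | h)
    · exact ⟨.inl ⟨i, hi⟩, by rw [eA]; rfl⟩
    · rw [Set.mem_singleton_iff] at h
      exact ⟨.inr (), by rw [h, eB]; rfl⟩
  · rintro ⟨i | i, rfl⟩
    · exact Or.inl ⟨i.1, i.2, by rw [eA]; rfl⟩
    · exact Or.inr (by rw [Set.mem_singleton_iff, eB]; rfl)

theorem basic (hn : 3 ≤ n) : ((1 : Fin (n + 1)) : ℕ) = 1 ∧ (1 : Fin (n + 1)) ≠ 0 ∧
    Fin.last n ≠ 0 ∧ Fin.last n ≠ 1 := by
  have h1 := val_one (n := n) (by omega)
  refine ⟨h1, fun h => ?_, fun h => ?_, fun h => ?_⟩ <;> have := congrArg Fin.val h <;>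
    (try simp only [h1] at this) <;> simp at this <;> omega

/-- monomials of degree `q` in `x₁,…,x_n` other than `x₁^q` and `x_n^q` -/
abbrev RQ (n q : ℕ) := {ν : RT n q // ν.1 ≠ Finsupp.single (Fin.last n) q}

abbrev Param (n q : ℕ) := (IA n ⊕ LT n) ⊕ (Unit ⊕ RQ n q)

open Classical in
noncomputable def pi : IA n ⊕ Unit → (Fin (n + 1) →₀ ℕ) → Option (Param n q)
  | .inl i, μ =>
    if μ = e 0 + e (Fin.last n) then some (.inl (.inl i))
    else if h : μ.degree = 2 ∧ μ 0 = 0 ∧ 1 ≤ i.1.val ∧ e i.1 ≤ μ then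
      some (.inl (.inr ⟨μ - e i.1, by
        have := degree_sub h.2.2.2
        have h0 := (tsub_le_self : μ - e i.1 ≤ μ) 0
        simp at this
        exact ⟨by omega, by omega⟩⟩))
    else none
  | .inr _, μ =>
    if μ = e 0 + (q - 1) • e (Fin.last n) then some (.inr (.inl ()))
    else if h : (μ.degree = q ∧ μ 0 = 0 ∧ μ 1 < q) ∧ μ ≠ Finsupp.single (Fin.last n) q then
      some (.inr (.inr ⟨⟨μ, h.1⟩, h.2⟩))
    else none

variable (hn : 3 ≤ n)

/-- the index `n - 1` -/
def pen : IA n := ⟨⟨n - 1, by omega⟩, by simp; omega⟩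

noncomputable def rep : Param n q → (IA n ⊕ Unit) × (Fin (n + 1) →₀ ℕ)
  | .inl (.inl i) => (.inl i, e 0 + e (Fin.last n))
  | .inl (.inr ν) => (.inl (pen hn), e (pen hn).1 + ν.1)
  | .inr (.inl _) => (.inr (), e 0 + (q - 1) • e (Fin.last n))
  | .inr (.inr ν) => (.inr (), ν.1.1)

theorem pen_ne : (pen hn).1 ≠ 0 ∧ (pen hn).1 ≠ 1 ∧ (pen hn).1 ≠ Fin.last n := by
  obtain ⟨h1, -, -, -⟩ := basic hn
  refine ⟨fun h => ?_, fun h => ?_, fun h => ?_⟩ <;> have := congrArg Fin.val h <;>
    (try simp only [h1] at this) <;> simp [pen] at this <;> omega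

variable (hq : 2 ≤ q) {k : Type*} [Field k] {I : Ideal (MvPolynomial (Fin (n + 1)) k)}
  (hI : I = Ideal.span (Set.range fun g => monomial (G n q g) (1 : k)))
include hn hq hI

theorem std_iff (μ : Fin (n + 1) →₀ ℕ) :
    μ ∉ exps I ↔ (μ 0 = 0 ∧ μ 1 < q) ∨ ∃ t, μ = e 0 + Finsupp.single (Fin.last n) t := by
  obtain ⟨h1, n10, l0, l1⟩ := basic hn
  rw [Hom0Lib.exps_iff I _ hI]
  push Not
  constructor
  · intro h
    rcases Nat.eq_zero_or_pos (μ 0) with h0 | h0
    · refine Or.inl ⟨h0, ?_⟩
      by_contra hc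
      refine h (.inr ()) fun t => ?_
      rcases eq_or_ne t 1 with rfl | ht
      · simp [G]; omega
      · simp [G, ht]
    · refine Or.inr ⟨μ (Fin.last n), Finsupp.ext fun l => ?_⟩
      rcases eq_or_ne l 0 with rfl | hl
      · simp [l0.symm]
        by_contra hne
        refine h (Sum.inl ⟨0, by simp; omega⟩) fun t => ?_
        rcases eq_or_ne t 0 with rfl | ht
        · simp [G]; omega
        · simp [G, ht]
      · rcases eq_or_ne l (Fin.last n) with rfl | hl'
        · simp [hl]
        · simp [hl, hl']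
          by_contra hne
          refine h (Sum.inl ⟨l, by simp [Fin.ext_iff] at hl'; omega⟩) fun t => ?_
          rcases eq_or_ne t 0 with rfl | ht
          · simp [G, hl.symm]; omega
          · rcases eq_or_ne t l with rfl | ht'
            · simp [G, ht]; omega
            · simp [G, ht, ht']
  · rintro (⟨h0, hlt⟩ | ⟨t, rfl⟩) (i | j) hle
    · have := hle 0
      simp [G, h0] at this
    · have := hle 1
      simp [G] at this
      omega
    · obtain ⟨i, hi⟩ := i
      have := hle i
      have hl : i ≠ Fin.last n := fun hh => by subst hh; simp at hi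
      rcases eq_or_ne i 0 with rfl | h0
      · simp [G, hl] at this
      · simp [G, hl, h0] at this
    · have := hle 1
      simp [G, n10, l1.symm] at this
      omega

theorem diffAA {i j : IA n} (hij : i ≠ j) : G n q (.inl j) - G n q (.inl i) = e j.1 := by
  have h : i.1 ≠ j.1 := fun h => hij (Subtype.ext h)
  refine Finsupp.ext fun t => ?_
  rcases eq_or_ne t j.1 with rfl | ht
  · simp [G, h.symm]
  · simp [G, ht]

theorem relAA (i j : IA n) {γ : Fin (n + 1) →₀ ℕ} (hγ : γ ∉ exps I) :
    along (G n q) (pi (q := q)) none (.inl i) (.inl j) γ = along (G n q) (pi (q := q)) none (.inl j) (.inl i) γ := by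
  classical
  rcases eq_or_ne i j with rfl | hij
  · rfl
  obtain ⟨h1, n10, l0, l1⟩ := basic hn
  have hij' : i.1 ≠ j.1 := fun h => hij (Subtype.ext h)
  simp only [along, diffAA hn hq hI hij, diffAA hn hq hI hij.symm]
  rcases (std_iff hn hq hI γ).1 hγ with hf | ⟨t, rfl⟩
  · have key : ∀ (i j : IA n), i.1 ≠ j.1 → (if e j.1 ≤ γ then pi (q := q) (.inl i) (γ - e j.1) else none) =
        if h : γ.degree = 3 ∧ 1 ≤ i.1.val ∧ 1 ≤ j.1.val ∧ e i.1 + e j.1 ≤ γ then
          some (.inl (.inr ⟨γ - (e i.1 + e j.1), by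
            have := degree_sub h.2.2.2
            have h0 := (tsub_le_self : γ - (e i.1 + e j.1) ≤ γ) 0
            simp at this
            exact ⟨by omega, by have := hf.1; omega⟩⟩)) else none := by
      intro i j hij
      have hsum : e i.1 + e j.1 ≤ γ → e j.1 ≤ γ ∧ e i.1 ≤ γ - e j.1 := fun h =>
        ⟨le_trans le_add_self h, fun t => by have := h t; simp at this ⊢; omega⟩
      by_cases hle : e j.1 ≤ γ
      swap
      · rw [if_neg hle, dif_neg fun h => hle (hsum h.2.2.2).1]
      have hj0 : 1 ≤ j.1.val := Nat.one_le_iff_ne_zero.2 fun h => by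
        have := hle j.1
        rw [show j.1 = 0 from Fin.ext h, hf.1] at this
        simp at this
      have hd := degree_sub hle
      simp at hd
      have hμ0 : (γ - e j.1) 0 = 0 := Nat.eq_zero_of_le_zero (((tsub_le_self : γ - e j.1 ≤ γ) 0).trans hf.1.le)
      rw [if_pos hle, pi, if_neg (ne_T hμ0 _)]
      by_cases hc : (γ - e j.1).degree = 2 ∧ (γ - e j.1) 0 = 0 ∧ 1 ≤ i.1.val ∧ e i.1 ≤ γ - e j.1
      · rw [dif_pos hc, dif_pos ⟨by omega, hc.2.2.1, hj0, (add_le_add_left hc.2.2.2 _).trans (tsub_add_cancel_of_le hle).le⟩]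
        congr 3
        apply Subtype.ext
        show γ - e j.1 - e i.1 = γ - (e i.1 + e j.1)
        rw [tsub_tsub, add_comm (e j.1)]
      · rw [dif_neg hc, dif_neg fun h => hc ⟨by omega, hμ0, h.2.1, (hsum h.2.2.2).2⟩]
    rw [key i j hij', key j i hij'.symm]
    simp only [add_comm (e j.1) (e i.1), and_left_comm (a := 1 ≤ j.1.val)]
  · suffices ∀ (i j : IA n), i.1 ≠ j.1 → (if e j.1 ≤ e 0 + Finsupp.single (Fin.last n) t then
        pi (q := q) (.inl i) (e 0 + Finsupp.single (Fin.last n) t - e j.1) else none) = none by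
      rw [this i j hij', this j i hij'.symm]
    intro i j hij
    split_ifs with h
    · have il : i.1 ≠ Fin.last n := fun hh => by have := congrArg Fin.val hh; simp at this; omega
      have hl : j.1 ≠ Fin.last n := fun hh => by have := congrArg Fin.val hh; simp at this; omega
      have hj0 : j.1 = 0 := by
        by_contra hne
        have := h j.1
        simp [hne, hl] at this
      rw [hj0] at hij ⊢
      rw [add_tsub_cancel_left, pi, if_neg (ne_T (by simp [l0.symm]) _), dif_neg]
      rintro ⟨-, -, -, h'⟩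
      have := h' i.1
      simp [il] at this
    · rfl

theorem relAB (i : IA n) (u : Unit) {γ : Fin (n + 1) →₀ ℕ} (hγ : γ ∉ exps I) :
    along (G n q) (pi (q := q)) none (.inl i) (.inr u) γ = none ∧
      along (G n q) (pi (q := q)) none (.inr u) (.inl i) γ = none := by
  classical
  obtain ⟨h1, n10, l0, l1⟩ := basic hn
  obtain ⟨i, hi⟩ := i
  have il : i ≠ Fin.last n := fun h => by subst h; simp at hi
  have hstd := (std_iff hn hq hI γ).1 hγ
  constructor
  · simp only [along]
    split_ifs with hle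
    swap
    · rfl
    have ha := hle 1
    rcases eq_or_ne i 1 with rfl | hi1
    · rcases hstd with hf | ⟨s, rfl⟩
      · rw [pi, if_neg (ne_T (Nat.eq_zero_of_le_zero (((tsub_le_self : γ - _ ≤ γ) 0).trans hf.1.le)) _), dif_neg]
        rintro ⟨-, -, -, h⟩
        have := h 1
        simp [G, n10, n10.symm] at this ha
        omega
      · exfalso
        simp [G, n10, n10.symm, l1.symm] at ha
        omega
    · exfalso
      rcases hstd with hf | ⟨s, rfl⟩
      · simp [G, n10, n10.symm, hi1.symm] at ha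
        omega
      · simp [G, n10, n10.symm, hi1.symm, l1.symm] at ha
        omega
  · simp only [along]
    split_ifs with hle
    swap
    · rfl
    have hb := hle 0
    rcases hstd with hf | ⟨s, rfl⟩
    · exfalso
      simp [G, hf.1, n10.symm] at hb
    · have hu : G n q (.inl ⟨i, hi⟩) - G n q (.inr u) = e 0 := by
        refine eq_of_le_of_degree (fun t => ?_) ?_
        · rcases eq_or_ne t 0 with rfl | ht
          · simp [G, n10.symm]
          · simp [ht]
        · have hw : G n q (.inl ⟨i, hi⟩) - G n q (.inr u) ≤ e 0 := fun t => by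
            rcases eq_or_ne t 0 with rfl | ht
            · simpa [l0.symm] using hb
            · rcases eq_or_ne t (Fin.last n) with rfl | ht'
              · simp [G, ht, il.symm]
              · have := hle t
                simpa [ht, ht'] using this
          have := Finsupp.degree_mono hw
          simpa using this
      rw [hu, add_tsub_cancel_left, pi, if_neg (ne_T (by simp [l0.symm]) _), dif_neg]
      rintro ⟨⟨hd, -, -⟩, hne⟩
      simp at hd
      exact hne (by rw [hd])

theorem solA (hcase : 4 ≤ q ∨ 4 ≤ n) {c : IA n ⊕ Unit → (Fin (n + 1) →₀ ℕ) → k} (hc : IsSol I (G n q) c) (i : IA n)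
    {μ : Fin (n + 1) →₀ ℕ} (hμ : μ ∉ exps I) (hd : μ.degree = 2) :
    c (.inl i) μ = (pi (q := q) (.inl i) μ).elim 0 fun p => c (rep hn p).1 (rep hn p).2 := by
  classical
  obtain ⟨h1, n10, l0, l1⟩ := basic hn
  obtain ⟨p0, p1, pl⟩ := pen_ne hn
  rw [pi]
  rcases (std_iff hn hq hI μ).1 hμ with hf | ⟨t, rfl⟩
  swap
  · obtain rfl : t = 1 := by simp at hd; omega
    rw [if_pos rfl]
    rfl
  rw [if_neg (ne_T hf.1 _)]
  let c' : Fin (n + 1) → (Fin (n + 1) →₀ ℕ) → k := fun i μ => if h : i.val + 1 ≤ n then c (.inl ⟨i, h⟩) μ else 0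
  have hrel : ∀ j : Fin (n + 1), j.val + 1 ≤ n → i.1 ≠ j → (μ + e j) 0 = 0 → (μ + e j) 1 < q →
      c (.inl i) μ = if e i.1 ≤ μ then c' j (μ - e i.1 + e j) else 0 := by
    intro j hj hne h0 hlt
    have hne' : i ≠ ⟨j, hj⟩ := fun h => hne (congrArg Subtype.val h)
    have := hc.rel (.inl i) (.inl ⟨j, hj⟩) (μ + e j) ((std_iff hn hq hI _).2 (Or.inl ⟨h0, hlt⟩))
    simp only [along, diffAA hn hq hI hne', diffAA hn hq hI hne'.symm] at this
    rw [if_pos le_add_self, add_tsub_cancel_right] at this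
    rw [this]
    by_cases h : e i.1 ≤ μ
    · rw [if_pos h, if_pos (h.trans le_self_add), tsub_add_eq_add_tsub h]
      simp only [c']
      rw [dif_pos hj]
    · rw [if_neg h, if_neg]
      exact fun h' => h fun t => by
        have := h' t
        rcases eq_or_ne t j with rfl | ht
        · simp [hne]
        · simpa [ht] using this
  by_cases hz : e i.1 ≤ μ
  · have hi0 : 1 ≤ i.1.val := Nat.one_le_iff_ne_zero.2 fun h => by
      have := hz i.1
      rw [show i.1 = 0 from Fin.ext h, hf.1] at this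
      simp at this
    rw [dif_pos ⟨hd, hf.1, hi0, hz⟩]
    simp only [Option.elim_some, rep]
    rcases eq_or_ne i (pen hn) with rfl | hne
    · rw [add_tsub_cancel_of_le hz]
    · rw [hrel (pen hn).1 (pen hn).2 (fun h => hne (Subtype.ext h)) (by simp [p0.symm, hf.1]) (by simpa [p1.symm] using hf.2),
        if_pos hz, add_comm (μ - e i.1)]
      exact dif_pos (c := (pen hn).1.val + 1 ≤ n) (pen hn).2
  · rw [dif_neg fun h => hz h.2.2.2, Option.elim_none]
    obtain ⟨j, hj, hne, h0, hlt⟩ : ∃ j : Fin (n + 1), j.val + 1 ≤ n ∧ i.1 ≠ j ∧ (μ + e j) 0 = 0 ∧ (μ + e j) 1 < q := by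
      rcases eq_or_ne i (pen hn) with rfl | hne
      swap
      · exact ⟨_, (pen hn).2, fun h => hne (Subtype.ext h), by simp [p0.symm, hf.1], by simpa [p1.symm] using hf.2⟩
      rcases hcase with h | h
      · refine ⟨1, by omega, p1, by simp [n10.symm, hf.1], ?_⟩
        have := Finsupp.le_degree 1 μ
        simp
        omega
      · have t0 : (0 : Fin (n + 1)) ≠ ⟨2, by omega⟩ := fun h => by simp [Fin.ext_iff] at h
        have t1 : (1 : Fin (n + 1)) ≠ ⟨2, by omega⟩ := fun h => by
          have := congrArg Fin.val h; rw [h1] at this; simp at this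
        exact ⟨⟨2, by omega⟩, by simp; omega, fun h => by have := congrArg Fin.val h; simp [pen] at this; omega,
          by simp [t0, hf.1], by simpa [t1] using hf.2⟩
    rw [hrel j hj hne h0 hlt, if_neg hz]

theorem solB {c : IA n ⊕ Unit → (Fin (n + 1) →₀ ℕ) → k} (hc : IsSol I (G n q) c) (u : Unit)
    {μ : Fin (n + 1) →₀ ℕ} (hμ : μ ∉ exps I) (hd : μ.degree = q) :
    c (.inr u) μ = (pi (q := q) (.inr u) μ).elim 0 fun p => c (rep hn p).1 (rep hn p).2 := by
  classical
  obtain ⟨h1, n10, l0, l1⟩ := basic hn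
  rw [pi]
  rcases (std_iff hn hq hI μ).1 hμ with hf | ⟨t, rfl⟩
  swap
  · obtain rfl : t = q - 1 := by simp at hd; omega
    rw [if_pos (by simp)]
    simp [rep]
  rw [if_neg (ne_T hf.1 _)]
  by_cases hL : μ = Finsupp.single (Fin.last n) q
  · rw [dif_neg fun h => h.2 hL, Option.elim_none]
    subst hL
    have one : (1 : Fin (n + 1)).val + 1 ≤ n := by omega
    have hγ : e 0 + Finsupp.single (Fin.last n) q ∉ exps I := (std_iff hn hq hI _).2 (Or.inr ⟨q, rfl⟩)
    have := hc.rel (.inr u) (.inl ⟨1, one⟩) _ hγ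
    have hu : G n q (.inl ⟨1, one⟩) - G n q (.inr u) = e 0 := Finsupp.ext fun t => by
      rcases eq_or_ne t 0 with rfl | ht
      · simp [G, n10.symm]
      · rcases eq_or_ne t 1 with rfl | ht1
        · simp [G, n10]; omega
        · simp [G, ht, ht1]
    simp only [along, hu] at this
    rw [if_pos le_self_add, add_tsub_cancel_left, if_neg] at this
    · exact this
    · intro h
      have := h 1
      simp [G, n10, n10.symm, l1.symm] at this
      omega
  · rw [dif_pos ⟨⟨hd, hf.1, hf.2⟩, hL⟩]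
    rfl

noncomputable def labelling (hcase : 4 ≤ q ∨ 4 ≤ n) : Labelling I (G n q) (pi (q := q)) where
  rep := rep hn
  deg g μ p h := by
    rcases g with i | j
    · rw [pi] at h
      split_ifs at h with c1 c2
      · subst c1; simp [G]
      · simp [G, c2.1]
    · rw [pi] at h
      split_ifs at h with c1 c2
      · subst c1; simp only [G, Sum.elim_inr, map_add, map_nsmul, Finsupp.degree_single, smul_eq_mul, mul_one]; omega
      · simp [G, c2.1.1]
  mult g μ p h := by
    rcases g with i | j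
    · rw [pi] at h
      split_ifs at h with c1 c2
      · cases h; subst c1; rfl
      · cases h
        simp only [rep, G, Sum.elim_inl]
        have := tsub_add_cancel_of_le c2.2.2.2
        generalize μ - e i.1 = ν at this ⊢
        subst this
        abel
    · rw [pi] at h
      split_ifs at h with c1 c2
      · cases h; subst c1; rfl
      · cases h; rfl
  rep_eq p := by
    obtain ⟨p0, p1, pl⟩ := pen_ne hn
    rcases p with (i | ν) | (u | ν)
    · rw [rep, pi, if_pos rfl]
    · rw [rep, pi, if_neg (ne_T (by simp [p0.symm, ν.2.2]) _),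
        dif_pos ⟨by simp [ν.2.1], by simp [p0.symm, ν.2.2], by simp [pen]; omega, le_self_add⟩]
      simp
    · rw [rep, pi, if_pos rfl]
    · rw [rep, pi, if_neg (ne_T ν.1.2.2.1 _), dif_pos ⟨ν.1.2, ν.2⟩]
  rep_std p := by
    obtain ⟨p0, p1, pl⟩ := pen_ne hn
    rw [std_iff hn hq hI]
    rcases p with (i | ν) | (u | ν)
    · exact Or.inr ⟨1, rfl⟩
    · refine Or.inl ⟨by simp [rep, p0.symm, ν.2.2], ?_⟩
      have := Finsupp.le_degree 1 ν.1
      simp [rep, p1.symm]
      have := ν.2.1
      omega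
    · exact Or.inr ⟨q - 1, by simp [rep]⟩
    · exact Or.inl ⟨ν.1.2.2.1, ν.1.2.2.2⟩
  rel g g' γ hγ := by
    rcases g with i | i <;> rcases g' with j | j
    · exact relAA hn hq hI i j hγ
    · rw [(relAB hn hq hI i j hγ).1, (relAB hn hq hI i j hγ).2]
    · rw [(relAB hn hq hI j i hγ).1, (relAB hn hq hI j i hγ).2]
    · rfl
  sol c hc g μ hμ hd := by
    rcases g with i | j
    · exact solA hn hq hI hcase hc i hμ (by simpa [G] using hd)
    · exact solB hn hq hI hc j hμ (by simpa [G] using hd)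

theorem finrank_eq (hcase : 4 ≤ q ∨ 4 ≤ n) :
    Module.finrank k ↥(hom0 I) + 1 = 2 * n + Nat.choose (n + q - 1) (n - 1) := by
  classical
  obtain ⟨h1, n10, l0, l1⟩ := basic hn
  haveI : Finite (LT n) := Nat.finite_of_card_ne_zero (by rw [TwoBlock.card_LT]; omega)
  haveI : Finite (RT n q) :=
    ((Finset.univ.finsuppAntidiag q).finite_toSet.subset fun ν (hν : ν.degree = q ∧ ν 0 = 0 ∧ ν 1 < q) => by
      simp [Finset.mem_finsuppAntidiag, ← hν.1, Finsupp.degree_eq_sum]).to_subtype
  haveI := Fintype.ofFinite (LT n)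
  haveI := Fintype.ofFinite (RT n q)
  let x₀ : RT n q := ⟨Finsupp.single (Fin.last n) q, by simp, by simp [l0.symm], by simp [l1.symm]; omega⟩
  have hR : Fintype.card (RQ n q) + 1 = Nat.card (RT n q) := by
    rw [Nat.card_eq_fintype_card, Fintype.card_congr (Equiv.subtypeEquivRight fun ν : RT n q =>
      (show ν.1 ≠ Finsupp.single (Fin.last n) q ↔ ¬ ν = x₀ from not_congr (Subtype.ext_iff (a1 := ν) (a2 := x₀)).symm)),
      Fintype.card_subtype_compl, Fintype.card_subtype_eq]
    have : 0 < Fintype.card (RT n q) := Fintype.card_pos_iff.2 ⟨x₀⟩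
    omega
  have hA : Fintype.card (IA n) = n := by rw [← Nat.card_eq_fintype_card, TwoBlock.card_IA]
  have hL : Fintype.card (LT n) = n := by rw [← Nat.card_eq_fintype_card, TwoBlock.card_LT]
  rw [(labelling hn hq hI hcase).finrank_eq hI, Fintype.card_sum, Fintype.card_sum, Fintype.card_sum, Fintype.card_unit,
    hA, hL, Nat.choose_symm_of_eq_add (show n + q - 1 = (n - 1) + q by omega),
    ← TwoBlock.card_RT_add_one (show 1 ≤ n by omega), ← hR]
  omega

end Hom0Lib.Hyper
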