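import Groth.Agent.Hom0Lib.TwoBlock

/-! Degree zero homomorphisms for the ideal of two coordinate planes not spanning the space. -/

set_option linter.unusedSectionVars false
set_option linter.style.haveILetI false

namespace Hom0Lib.Planes

open MvPolynomial W4c1hilbpn
open Hom0Lib.TwoBlock (e degree_sub eq_of_le_of_degree exists_of_degree_one)

variable {n c d : ℕ}

abbrev IC (n c : ℕ) := {i : Fin (n + 1) // i.val + 1 ≤ c}
abbrev ID (n d : ℕ) := {j : Fin (n + 1) // n + 1 ≤ j.val + d}

variable (n c d) in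
noncomputable def G : IC n c × ID n d → Fin (n + 1) →₀ ℕ := fun g => e g.1.1 + e g.2.1

theorem span_eq {k : Type*} [Field k] (n c d : ℕ) :
    Ideal.span {f : MvPolynomial (Fin (n + 1)) k | ∃ i j : Fin (n + 1), i.val + 1 ≤ c ∧ n + 1 ≤ j.val + d ∧
        f = X i * X j} =
      Ideal.span (Set.range fun g => monomial (G n c d g) (1 : k)) := by
  have eA : ∀ i j : Fin (n + 1), (X i * X j : MvPolynomial (Fin (n + 1)) k) = monomial (e i + e j) 1 := fun i j => by
    rw [X, X, monomial_mul, one_mul]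
  refine congrArg Ideal.span (Set.ext fun f => ?_)
  constructor
  · rintro ⟨i, j, hi, hj, rfl⟩
    exact ⟨(⟨i, hi⟩, ⟨j, hj⟩), by rw [eA]; rfl⟩
  · rintro ⟨⟨i, j⟩, rfl⟩
    exact ⟨i.1, j.1, i.2, j.2, by rw [eA]; rfl⟩

/-- free of the variables in the first block -/
def CFree (c : ℕ) (μ : Fin (n + 1) →₀ ℕ) : Prop := ∀ l : Fin (n + 1), l.val + 1 ≤ c → μ l = 0

/-- free of the variables in the second block -/
def DFree (d : ℕ) (μ : Fin (n + 1) →₀ ℕ) : Prop := ∀ l : Fin (n + 1), n + 1 ≤ l.val + d → μ l = 0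

abbrev VC (n c : ℕ) := {ν : Fin (n + 1) →₀ ℕ // ν.degree = 1 ∧ CFree c ν}
abbrev VD (n d : ℕ) := {ν : Fin (n + 1) →₀ ℕ // ν.degree = 1 ∧ DFree d ν}

abbrev Param (n c d : ℕ) := (IC n c × VC n c) ⊕ (ID n d × VD n d)

open Classical in
noncomputable def pi (g : IC n c × ID n d) (μ : Fin (n + 1) →₀ ℕ) : Option (Param n c d) :=
  if h : μ.degree = 2 ∧ CFree c μ ∧ e g.2.1 ≤ μ then
    some (.inl (g.1, ⟨μ - e g.2.1, by
      have := degree_sub h.2.2
      simp at this
      exact ⟨by omega, fun l hl => by simp [h.2.1 l hl]⟩⟩))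
  else if h : μ.degree = 2 ∧ DFree d μ ∧ e g.1.1 ≤ μ then
    some (.inr (g.2, ⟨μ - e g.1.1, by
      have := degree_sub h.2.2
      simp at this
      exact ⟨by omega, fun l hl => by simp [h.2.1 l hl]⟩⟩))
  else none


/-- a variable of the first block -/
def i0 (hc : 2 ≤ c) : IC n c := ⟨⟨0, by omega⟩, by simp; omega⟩

/-- a variable of the second block -/
def j0 (hd : 2 ≤ d) : ID n d := ⟨⟨n, by omega⟩, by simp; omega⟩

noncomputable def rep (hc : 2 ≤ c) (hd : 2 ≤ d) : Param n c d → (IC n c × ID n d) × (Fin (n + 1) →₀ ℕ)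
  | .inl (i, ν) => ((i, j0 hd), e (j0 (n := n) hd).1 + ν.1)
  | .inr (j, ν) => ((i0 hc, j), e (i0 (n := n) hc).1 + ν.1)

variable (hc : 2 ≤ c) (hd : 2 ≤ d) (hn : c + d ≤ n)

include hn in
theorem ne_of_blocks (i : IC n c) (j : ID n d) : i.1 ≠ j.1 := fun h => by
  have := i.2
  have := j.2
  have := congrArg Fin.val h
  omega

include hn in
theorem cfree_D (j : ID n d) : CFree c (e j.1) := fun l hl => by
  rw [Finsupp.single_eq_of_ne (ne_of_blocks hn ⟨l, hl⟩ j)]

include hn in
theorem dfree_C (i : IC n c) : DFree d (e i.1) := fun l hl => by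
  rw [Finsupp.single_eq_of_ne (ne_of_blocks hn i ⟨l, hl⟩).symm]

theorem CFree.add {μ ν : Fin (n + 1) →₀ ℕ} (h : CFree c μ) (h' : CFree c ν) : CFree c (μ + ν) := fun l hl => by
  simp [h l hl, h' l hl]

theorem DFree.add {μ ν : Fin (n + 1) →₀ ℕ} (h : DFree d μ) (h' : DFree d ν) : DFree d (μ + ν) := fun l hl => by
  simp [h l hl, h' l hl]

theorem not_le_of_cfree {μ : Fin (n + 1) →₀ ℕ} (h : CFree c μ) (i : IC n c) : ¬ e i.1 ≤ μ := fun hle => by
  have := hle i.1
  simp [h i.1 i.2] at this

theorem not_le_of_dfree {μ : Fin (n + 1) →₀ ℕ} (h : DFree d μ) (j : ID n d) : ¬ e j.1 ≤ μ := fun hle => by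
  have := hle j.1
  simp [h j.1 j.2] at this

variable {k : Type*} [Field k] {I : Ideal (MvPolynomial (Fin (n + 1)) k)}
  (hI : I = Ideal.span (Set.range fun g => monomial (G n c d g) (1 : k)))
include hn hI

theorem std_iff (μ : Fin (n + 1) →₀ ℕ) : μ ∉ exps I ↔ CFree c μ ∨ DFree d μ := by
  rw [Hom0Lib.exps_iff I _ hI]
  push Not
  constructor
  · intro h
    by_contra hcon
    simp only [not_or, CFree, DFree] at hcon
    push Not at hcon
    obtain ⟨⟨i, hi, hi0⟩, j, hj, hj0⟩ := hcon
    have hij := ne_of_blocks hn ⟨i, hi⟩ ⟨j, hj⟩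
    refine h (⟨i, hi⟩, ⟨j, hj⟩) fun t => ?_
    rcases eq_or_ne t i with rfl | ht
    · simp [G, hij]; omega
    · rcases eq_or_ne t j with rfl | ht'
      · simp [G, ht]; omega
      · simp [G, ht, ht']
  · rintro (h | h) g hle
    · exact not_le_of_cfree h g.1 (le_self_add.trans hle)
    · exact not_le_of_dfree h g.2 (le_add_self.trans hle)

theorem diffD (i : IC n c) {j j' : ID n d} (h : j ≠ j') : G n c d (i, j') - G n c d (i, j) = e j'.1 := by
  have h' : j.1 ≠ j'.1 := fun hh => h (Subtype.ext hh)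
  refine Finsupp.ext fun t => ?_
  rcases eq_or_ne t j'.1 with rfl | ht
  · simp [G, h'.symm]
  · simp [G, ht]

theorem diffC {i i' : IC n c} (h : i ≠ i') (j : ID n d) : G n c d (i', j) - G n c d (i, j) = e i'.1 := by
  have h' : i.1 ≠ i'.1 := fun hh => h (Subtype.ext hh)
  refine Finsupp.ext fun t => ?_
  rcases eq_or_ne t i'.1 with rfl | ht
  · simp [G, h'.symm]
  · simp [G, ht]

theorem diffBoth {i i' : IC n c} {j j' : ID n d} (h : i ≠ i') (h' : j ≠ j') :
    G n c d (i', j') - G n c d (i, j) = e i'.1 + e j'.1 := by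
  have a : i.1 ≠ i'.1 := fun hh => h (Subtype.ext hh)
  have b : j.1 ≠ j'.1 := fun hh => h' (Subtype.ext hh)
  have := ne_of_blocks hn i' j'
  have := ne_of_blocks hn i j'
  have := ne_of_blocks hn i' j
  refine Finsupp.ext fun t => ?_
  rcases eq_or_ne t i'.1 with rfl | ht
  · simp [G, a.symm, *]
  · rcases eq_or_ne t j'.1 with rfl | ht'
    · simp [G, b.symm, *, Ne.symm, ht.symm]
    · simp [G, ht, ht']

theorem relD (i : IC n c) (j j' : ID n d) {γ : Fin (n + 1) →₀ ℕ} (hγ : γ ∉ exps I) :
    along (G n c d) pi none (i, j) (i, j') γ = along (G n c d) pi none (i, j') (i, j) γ := by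
  classical
  rcases eq_or_ne j j' with rfl | hne
  · rfl
  simp only [along, diffD hn hI i hne, diffD hn hI i hne.symm]
  rcases (std_iff hn hI γ).1 hγ with hC | hD
  swap
  · rw [if_neg (not_le_of_dfree hD j'), if_neg (not_le_of_dfree hD j)]
  have key : ∀ j j' : ID n d, j ≠ j' → (if e j'.1 ≤ γ then pi (i, j) (γ - e j'.1) else none) =
      if h : γ.degree = 3 ∧ e j.1 + e j'.1 ≤ γ then
        some (.inl (i, ⟨γ - (e j.1 + e j'.1), by
          have := degree_sub h.2
          simp at this
          exact ⟨by omega, fun l hl => by simp [hC l hl]⟩⟩)) else none := by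
    intro j j' hne
    have hsum : e j.1 + e j'.1 ≤ γ → e j'.1 ≤ γ ∧ e j.1 ≤ γ - e j'.1 := fun h =>
      ⟨le_trans le_add_self h, fun t => by have := h t; simp at this ⊢; omega⟩
    by_cases hle : e j'.1 ≤ γ
    swap
    · rw [if_neg hle, dif_neg fun h => hle (hsum h.2).1]
    have hdd := degree_sub hle
    simp at hdd
    have hμ : CFree c (γ - e j'.1) := fun l hl => by simp [hC l hl]
    rw [if_pos hle, pi]
    by_cases h1 : (γ - e j'.1).degree = 2 ∧ CFree c (γ - e j'.1) ∧ e j.1 ≤ γ - e j'.1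
    · rw [dif_pos h1, dif_pos ⟨by omega, (add_le_add_left h1.2.2 _).trans (tsub_add_cancel_of_le hle).le⟩]
      congr 3
      apply Subtype.ext
      show γ - e j'.1 - e j.1 = γ - (e j.1 + e j'.1)
      rw [tsub_tsub, add_comm (e j'.1)]
    · rw [dif_neg h1, dif_neg fun h => not_le_of_cfree hμ i h.2.2,
        dif_neg fun h => h1 ⟨by omega, hμ, (hsum h.2).2⟩]
  rw [key j j' hne, key j' j hne.symm]
  simp only [add_comm (e j'.1) (e j.1)]

theorem relC (i i' : IC n c) (j : ID n d) {γ : Fin (n + 1) →₀ ℕ} (hγ : γ ∉ exps I) :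
    along (G n c d) pi none (i, j) (i', j) γ = along (G n c d) pi none (i', j) (i, j) γ := by
  classical
  rcases eq_or_ne i i' with rfl | hne
  · rfl
  simp only [along, diffC hn hI hne j, diffC hn hI hne.symm j]
  rcases (std_iff hn hI γ).1 hγ with hC | hD
  · rw [if_neg (not_le_of_cfree hC i'), if_neg (not_le_of_cfree hC i)]
  have key : ∀ i i' : IC n c, i ≠ i' → (if e i'.1 ≤ γ then pi (i, j) (γ - e i'.1) else none) =
      if h : γ.degree = 3 ∧ e i.1 + e i'.1 ≤ γ then
        some (.inr (j, ⟨γ - (e i.1 + e i'.1), by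
          have := degree_sub h.2
          simp at this
          exact ⟨by omega, fun l hl => by simp [hD l hl]⟩⟩)) else none := by
    intro i i' hne
    have hsum : e i.1 + e i'.1 ≤ γ → e i'.1 ≤ γ ∧ e i.1 ≤ γ - e i'.1 := fun h =>
      ⟨le_trans le_add_self h, fun t => by have := h t; simp at this ⊢; omega⟩
    by_cases hle : e i'.1 ≤ γ
    swap
    · rw [if_neg hle, dif_neg fun h => hle (hsum h.2).1]
    have hdd := degree_sub hle
    simp at hdd
    have hμ : DFree d (γ - e i'.1) := fun l hl => by simp [hD l hl]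
    rw [if_pos hle, pi, dif_neg fun h => not_le_of_dfree hμ j h.2.2]
    by_cases h1 : (γ - e i'.1).degree = 2 ∧ DFree d (γ - e i'.1) ∧ e i.1 ≤ γ - e i'.1
    · rw [dif_pos h1, dif_pos ⟨by omega, (add_le_add_left h1.2.2 _).trans (tsub_add_cancel_of_le hle).le⟩]
      congr 3
      apply Subtype.ext
      show γ - e i'.1 - e i.1 = γ - (e i.1 + e i'.1)
      rw [tsub_tsub, add_comm (e i'.1)]
    · rw [dif_neg h1, dif_neg fun h => h1 ⟨by omega, hμ, (hsum h.2).2⟩]
  rw [key i i' hne, key i' i hne.symm]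
  simp only [add_comm (e i'.1) (e i.1)]

theorem relBoth {i i' : IC n c} {j j' : ID n d} (h : i ≠ i') (h' : j ≠ j') {γ : Fin (n + 1) →₀ ℕ} (hγ : γ ∉ exps I) :
    along (G n c d) pi none (i, j) (i', j') γ = none := by
  simp only [along, diffBoth hn hI h h']
  rw [if_neg]
  intro hle
  rcases (std_iff hn hI γ).1 hγ with hC | hD
  · exact not_le_of_cfree hC i' (le_self_add.trans hle)
  · exact not_le_of_dfree hD j' (le_add_self.trans hle)

noncomputable def labelling : Labelling I (G n c d) pi where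
  rep := rep hc hd
  deg g μ p h := by
    rw [pi] at h
    split_ifs at h with h1 h2
    · simp [G, h1.1]
    · simp [G, h2.1]
  mult g μ p h := by
    rw [pi] at h
    split_ifs at h with h1 h2
    · cases h
      simp only [rep, G]
      have := tsub_add_cancel_of_le h1.2.2
      generalize μ - e g.2.1 = ν at this ⊢
      subst this
      abel
    · cases h
      simp only [rep, G]
      have := tsub_add_cancel_of_le h2.2.2
      generalize μ - e g.1.1 = ν at this ⊢
      subst this
      abel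
  rep_eq p := by
    rcases p with ⟨i, ν⟩ | ⟨j, ν⟩
    · rw [rep, pi, dif_pos ⟨by simp [ν.2.1], (cfree_D hn (j0 hd)).add ν.2.2, le_self_add⟩]
      simp
    · rw [rep, pi, dif_neg, dif_pos ⟨by simp [ν.2.1], (dfree_C hn (i0 hc)).add ν.2.2, le_self_add⟩]
      · simp
      · rintro ⟨-, h, -⟩
        exact not_le_of_cfree h (i0 hc) le_self_add
  rep_std p := by
    rw [std_iff hn hI]
    rcases p with ⟨i, ν⟩ | ⟨j, ν⟩
    · exact Or.inl ((cfree_D hn (j0 hd)).add ν.2.2)
    · exact Or.inr ((dfree_C hn (i0 hc)).add ν.2.2)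
  rel g g' γ hγ := by
    obtain ⟨i, j⟩ := g
    obtain ⟨i', j'⟩ := g'
    rcases eq_or_ne i i' with rfl | hi
    · exact relD hn hI i j j' hγ
    rcases eq_or_ne j j' with rfl | hj
    · exact relC hn hI i i' j hγ
    rw [relBoth hn hI hi hj hγ, relBoth hn hI hi.symm hj.symm hγ]
  sol co hco g μ hμ hdeg := by
    classical
    obtain ⟨i, j⟩ := g
    replace hdeg : μ.degree = 2 := by simpa [G] using hdeg
    have linkD : CFree c μ → ∀ j', j ≠ j' → co (i, j) μ = if e j.1 ≤ μ then co (i, j') (μ - e j.1 + e j'.1) else 0 := by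
      intro hC j' hne
      have hne' : j.1 ≠ j'.1 := fun h => hne (Subtype.ext h)
      have := hco.rel (i, j) (i, j') (μ + e j'.1) ((std_iff hn hI _).2 (Or.inl (hC.add (cfree_D hn j'))))
      simp only [along, diffD hn hI i hne, diffD hn hI i hne.symm] at this
      rw [if_pos le_add_self, add_tsub_cancel_right] at this
      rw [this]
      by_cases h : e j.1 ≤ μ
      · rw [if_pos h, if_pos (h.trans le_self_add), tsub_add_eq_add_tsub h]
      · rw [if_neg h, if_neg]
        exact fun h' => h fun t => by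
          have := h' t
          rcases eq_or_ne t j'.1 with rfl | ht
          · simp [hne']
          · simpa [ht] using this
    have linkC : DFree d μ → ∀ i', i ≠ i' → co (i, j) μ = if e i.1 ≤ μ then co (i', j) (μ - e i.1 + e i'.1) else 0 := by
      intro hD i' hne
      have hne' : i.1 ≠ i'.1 := fun h => hne (Subtype.ext h)
      have := hco.rel (i, j) (i', j) (μ + e i'.1) ((std_iff hn hI _).2 (Or.inr (hD.add (dfree_C hn i'))))
      simp only [along, diffC hn hI hne j, diffC hn hI hne.symm j] at this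
      rw [if_pos le_add_self, add_tsub_cancel_right] at this
      rw [this]
      by_cases h : e i.1 ≤ μ
      · rw [if_pos h, if_pos (h.trans le_self_add), tsub_add_eq_add_tsub h]
      · rw [if_neg h, if_neg]
        exact fun h' => h fun t => by
          have := h' t
          rcases eq_or_ne t i'.1 with rfl | ht
          · simp [hne']
          · simpa [ht] using this
    obtain ⟨i', hi'⟩ : ∃ i' : IC n c, i ≠ i' := by
      by_cases h : i.1.val = 0
      · exact ⟨⟨⟨1, by omega⟩, by simp; omega⟩, fun hh => by simp [hh] at h⟩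
      · exact ⟨⟨⟨0, by omega⟩, by simp; omega⟩, fun hh => by simp [hh] at h⟩
    obtain ⟨j', hj'⟩ : ∃ j' : ID n d, j ≠ j' := by
      by_cases h : j.1.val = n
      · exact ⟨⟨⟨n - 1, by omega⟩, by simp; omega⟩, fun hh => by simp [hh] at h; omega⟩
      · exact ⟨⟨⟨n, by omega⟩, by simp; omega⟩, fun hh => by simp [hh] at h⟩
    rw [pi]
    rcases (std_iff hn hI μ).1 hμ with hC | hD
    · by_cases hz : e j.1 ≤ μ
      · rw [dif_pos ⟨hdeg, hC, hz⟩]
        simp only [Option.elim_some, rep]
        rcases eq_or_ne j (j0 hd) with rfl | hne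
        · rw [add_tsub_cancel_of_le hz]
        · rw [linkD hC (j0 hd) hne, if_pos hz, add_comm (μ - e j.1)]
      · rw [dif_neg fun h => hz h.2.2, dif_neg fun h => not_le_of_cfree hC i h.2.2, Option.elim_none,
          linkD hC j' hj', if_neg hz]
    · rw [dif_neg fun h => not_le_of_dfree hD j h.2.2]
      by_cases hz : e i.1 ≤ μ
      · rw [dif_pos ⟨hdeg, hD, hz⟩]
        simp only [Option.elim_some, rep]
        rcases eq_or_ne i (i0 hc) with rfl | hne
        · rw [add_tsub_cancel_of_le hz]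
        · rw [linkC hD (i0 hc) hne, if_pos hz, add_comm (μ - e i.1)]
      · rw [dif_neg fun h => hz h.2.2, Option.elim_none, linkC hD i' hi', if_neg hz]

omit hn hI in
theorem card_VC : Nat.card (VC n c) = n + 1 - c := by
  let f : Fin (n + 1 - c) → VC n c := fun x => ⟨e ⟨c + x.val, by omega⟩, by simp, fun l hl => by
    rw [Finsupp.single_eq_of_ne]
    exact fun h => by have := congrArg Fin.val h; simp at this; omega⟩
  refine (Nat.card_congr (Equiv.ofBijective f ⟨fun x y h => ?_, fun ν => ?_⟩).symm).trans (Nat.card_fin _)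
  · have := congrArg Fin.val (Finsupp.single_left_injective one_ne_zero (congrArg (fun ν : VC n c => ν.1) h))
    simp at this
    exact Fin.ext this
  · obtain ⟨ν, hd1, h0⟩ := ν
    obtain ⟨l, rfl⟩ := exists_of_degree_one hd1
    have hl : c ≤ l.val := by
      by_contra h
      have := h0 l (by omega)
      simp at this
    refine ⟨⟨l.val - c, by omega⟩, Subtype.ext ?_⟩
    show e _ = Finsupp.single l 1
    congr 1
    exact Fin.ext (by simp; omega)

omit hn hI in
theorem card_VD : Nat.card (VD n d) = n + 1 - d := by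
  let f : Fin (n + 1 - d) → VD n d := fun x => ⟨e ⟨x.val, by omega⟩, by simp, fun l hl => by
    rw [Finsupp.single_eq_of_ne]
    exact fun h => by have := congrArg Fin.val h; simp at this; omega⟩
  refine (Nat.card_congr (Equiv.ofBijective f ⟨fun x y h => ?_, fun ν => ?_⟩).symm).trans (Nat.card_fin _)
  · have := congrArg Fin.val (Finsupp.single_left_injective one_ne_zero (congrArg (fun ν : VD n d => ν.1) h))
    simp at this
    exact Fin.ext this
  · obtain ⟨ν, hd1, h0⟩ := ν
    obtain ⟨l, rfl⟩ := exists_of_degree_one hd1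
    have hl : l.val + d ≤ n := by
      by_contra h
      have := h0 l (by omega)
      simp at this
    exact ⟨⟨l.val, by omega⟩, rfl⟩

omit hn hI in
theorem card_IC (hcn : c ≤ n) : Nat.card (IC n c) = c := by
  rw [Nat.card_congr (⟨fun i => ⟨i.1.val, by have := i.2; omega⟩, fun i => ⟨⟨i.val, by omega⟩, by simp⟩,
    fun i => by ext; rfl, fun i => by ext; rfl⟩ : IC n c ≃ Fin c), Nat.card_fin]

omit hn hI in
theorem card_ID (hdn : d ≤ n) : Nat.card (ID n d) = d := by
  rw [Nat.card_congr (⟨fun i => ⟨i.1.val - (n + 1 - d), by have := i.2; omega⟩,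
    fun i => ⟨⟨i.val + (n + 1 - d), by omega⟩, by simp; omega⟩,
    fun i => by apply Subtype.ext; apply Fin.ext; have := i.2; simp; omega,
    fun i => by ext; simp⟩ : ID n d ≃ Fin d), Nat.card_fin]

include hc hd in
theorem finrank_eq : Module.finrank k ↥(hom0 I) = c * (n - c + 1) + d * (n - d + 1) := by
  classical
  haveI : Finite (VC n c) := Nat.finite_of_card_ne_zero (by rw [card_VC]; omega)
  haveI : Finite (VD n d) := Nat.finite_of_card_ne_zero (by rw [card_VD]; omega)
  haveI := Fintype.ofFinite (VC n c)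
  haveI := Fintype.ofFinite (VD n d)
  rw [(labelling hc hd hn hI).finrank_eq hI, ← Nat.card_eq_fintype_card, Nat.card_sum, Nat.card_prod, Nat.card_prod,
    card_IC (by omega), card_ID (by omega), card_VC, card_VD, show n + 1 - c = n - c + 1 by omega,
    show n + 1 - d = n - d + 1 by omega]

end Hom0Lib.Planes
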