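import Groth.Agent.Hom0Lib.TwoBlock

/-! The two-block generating sets as monomials. -/

namespace Hom0Lib.TwoBlock

open MvPolynomial

theorem span_eq {k : Type*} [Field k] (n q m : ℕ) :
    Ideal.span ({f : MvPolynomial (Fin (n + 1)) k | ∃ i : Fin (n + 1), i.val + 1 ≤ n ∧ f = X 0 * X i} ∪
        {f : MvPolynomial (Fin (n + 1)) k | ∃ i : Fin (n + 1), 1 ≤ i.val ∧ i.val ≤ m ∧ f = X 1 ^ q * X i}) =
      Ideal.span (Set.range fun g => monomial (G n q m g) (1 : k)) := by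
  have eA : ∀ i : Fin (n + 1), (X 0 * X i : MvPolynomial (Fin (n + 1)) k) = monomial (e 0 + e i) 1 := fun i => by
    rw [X, X, monomial_mul, one_mul]
  have eB : ∀ i : Fin (n + 1), (X 1 ^ q * X i : MvPolynomial (Fin (n + 1)) k) = monomial (q • e 1 + e i) 1 := fun i => by
    rw [X, X, monomial_pow, monomial_mul, one_pow, one_mul]
  refine congrArg Ideal.span (Set.ext fun f => ?_)
  constructor
  · rintro (⟨i, hi, rfl⟩ | ⟨i, h1, h2, rfl⟩)
    · exact ⟨.inl ⟨i, hi⟩, by rw [eA]; rfl⟩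
    · exact ⟨.inr ⟨i, h1, h2⟩, by rw [eB]; rfl⟩
  · rintro ⟨i | i, rfl⟩
    · exact Or.inl ⟨i.1, i.2, by rw [eA]; rfl⟩
    · exact Or.inr ⟨i.1, i.2.1, i.2.2, by rw [eB]; rfl⟩

end Hom0Lib.TwoBlock
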