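import Groth.Agent.Hom0Lib.Basic
import Mathlib.Algebra.Order.Antidiag.FinsuppEquiv

/-! Degree zero homomorphisms for the two-block ideals `x₀(x₀,…,x_{n-1}) + x₁^q(x₁,…,x_m)`. -/

set_option linter.unusedSectionVars false
set_option linter.style.haveILetI false

namespace Hom0Lib.TwoBlock

open MvPolynomial W4c1hilbpn

variable {n q m : ℕ}

/-- a unit exponent vector -/
noncomputable abbrev e (l : Fin (n + 1)) : Fin (n + 1) →₀ ℕ := Finsupp.single l 1

abbrev IA (n : ℕ) := {i : Fin (n + 1) // i.val + 1 ≤ n}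
abbrev IB (n m : ℕ) := {j : Fin (n + 1) // 1 ≤ j.val ∧ j.val ≤ m}

variable (n q m) in
noncomputable def G : IA n ⊕ IB n m → Fin (n + 1) →₀ ℕ :=
  Sum.elim (fun i => e 0 + e i.1) fun j => q • e 1 + e j.1

theorem eq_of_le_of_degree {σ : Type*} {ν μ : σ →₀ ℕ} (h : ν ≤ μ) (hd : μ.degree ≤ ν.degree) : μ = ν := by
  have e1 : μ - ν + ν = μ := tsub_add_cancel_of_le h
  have e2 := congrArg Finsupp.degree e1
  rw [map_add] at e2
  have : (μ - ν).degree = 0 := by omega
  rw [Finsupp.degree_eq_zero_iff] at this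
  rw [← e1, this, zero_add]

theorem exists_of_degree_one {σ : Type*} {ν : σ →₀ ℕ} (h : ν.degree = 1) : ∃ l, ν = Finsupp.single l 1 := by
  obtain ⟨l, hl⟩ : ν.support.Nonempty := by
    by_contra hs
    rw [Finset.not_nonempty_iff_eq_empty, Finsupp.support_eq_empty] at hs
    simp [hs] at h
  exact ⟨l, eq_of_le_of_degree (Finsupp.single_le_iff.2 (Nat.one_le_iff_ne_zero.2 (Finsupp.mem_support_iff.1 hl))) (by simp [h])⟩

theorem single_eq_of_zero {d : ℕ} {μ : Fin (n + 1) →₀ ℕ} (hd : μ.degree = d) (h : ∀ l : Fin (n + 1), l.val < n → μ l = 0) :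
    μ = Finsupp.single (Fin.last n) d := by
  subst hd
  rw [Finsupp.degree_eq_sum, Finset.sum_eq_single (Fin.last n) (fun l _ hl => h l ?_) (by simp)]
  · refine Finsupp.ext fun l => ?_
    rcases eq_or_ne l (Fin.last n) with rfl | hl
    · simp
    · rw [Finsupp.single_eq_of_ne hl]
      exact h l (by simp [Fin.ext_iff] at hl; omega)
  · simp [Fin.ext_iff] at hl
    omega

theorem val_one (hn : 1 ≤ n) : ((1 : Fin (n + 1)) : ℕ) = 1 := by
  simp [Fin.val_one', Nat.mod_eq_of_lt (show 1 < n + 1 by omega)]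

/-- standard exponents free of `x₀` -/
def Free (n q m : ℕ) (μ : Fin (n + 1) →₀ ℕ) : Prop :=
  μ 0 = 0 ∧ (μ 1 < q ∨ μ 1 = q ∧ ∀ l : Fin (n + 1), 2 ≤ l.val → l.val ≤ m → μ l = 0)

theorem Free.mono {μ ν : Fin (n + 1) →₀ ℕ} (h : Free n q m μ) (hle : ν ≤ μ) : Free n q m ν := by
  refine ⟨by have := hle 0; have := h.1; omega, ?_⟩
  rcases h.2 with h1 | ⟨h1, h2⟩
  · exact Or.inl (lt_of_le_of_lt (hle 1) h1)
  · rcases (hle 1).lt_or_eq with h3 | h3
    · exact Or.inl (h1 ▸ h3)
    · exact Or.inr ⟨h3.trans h1, fun l a b => by have := hle l; have := h2 l a b; omega⟩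

section
variable (hm : 2 ≤ m) (hmn : m < n)
include hm hmn

theorem one_val : ((1 : Fin (n + 1)) : ℕ) = 1 := val_one (by omega)

theorem Free.add {μ : Fin (n + 1) →₀ ℕ} (h : Free n q m μ) {l : Fin (n + 1)} (hl : m < l.val) :
    Free n q m (μ + e l) := by
  have h1 := one_val hm hmn
  have n0 : l ≠ 0 := fun hh => by subst hh; simp at hl
  have n1 : l ≠ 1 := fun hh => by subst hh; omega
  refine ⟨by simp [h.1, n0.symm], ?_⟩
  have e1 : (μ + e l) 1 = μ 1 := by simp [n1.symm]
  rw [e1]
  refine h.2.imp id fun hh => ⟨hh.1, fun t a b => ?_⟩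
  have nt : t ≠ l := fun hh' => by subst hh'; omega
  simpa [Finsupp.single_eq_of_ne nt] using hh.2 t a b

theorem Free.not_block {μ : Fin (n + 1) →₀ ℕ} (h : Free n q m μ) {j : Fin (n + 1)} (hj1 : 1 ≤ j.val)
    (hjm : j.val ≤ m) : ¬ (q • e 1 + e j ≤ μ) := by
  intro hle
  have h1 := one_val hm hmn
  have a := hle 1
  have b := hle j
  rcases eq_or_ne j 1 with rfl | hj
  · simp at a
    rcases h.2 with hh | ⟨hh, -⟩ <;> omega
  · have : j.val ≠ 1 := fun hh => hj (Fin.ext (by omega))
    simp [hj, hj.symm] at a b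
    rcases h.2 with hh | ⟨-, hh⟩
    · omega
    · have := hh j (by omega) hjm
      omega

theorem free_of_not_block {μ : Fin (n + 1) →₀ ℕ} (h0 : μ 0 = 0)
    (h : ∀ j : Fin (n + 1), 1 ≤ j.val → j.val ≤ m → ¬ (q • e 1 + e j ≤ μ)) : Free n q m μ := by
  have h1 := one_val hm hmn
  refine ⟨h0, ?_⟩
  rcases lt_trichotomy (μ 1) q with hq | hq | hq
  · exact Or.inl hq
  · refine Or.inr ⟨hq, fun l a b => ?_⟩
    by_contra hl
    refine h l (by omega) b fun t => ?_
    have nl : l ≠ 1 := fun hh => by subst hh; omega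
    rcases eq_or_ne t 1 with rfl | ht
    · simp [nl.symm, hq]
    · rcases eq_or_ne t l with rfl | ht'
      · simp [ht]; omega
      · simp [ht, ht']
  · exfalso
    refine h 1 (by omega) (by omega) fun t => ?_
    rcases eq_or_ne t 1 with rfl | ht
    · simp; omega
    · simp [ht]

variable (hq : 1 ≤ q) {k : Type*} [Field k] {I : Ideal (MvPolynomial (Fin (n + 1)) k)}
  (hI : I = Ideal.span (Set.range fun g => monomial (G n q m g) (1 : k)))

include hq hI in
theorem std_iff (μ : Fin (n + 1) →₀ ℕ) :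
    μ ∉ exps I ↔ Free n q m μ ∨ ∃ t, μ = e 0 + Finsupp.single (Fin.last n) t := by
  rw [Hom0Lib.exps_iff I _ hI]
  push Not
  constructor
  · intro h
    rcases Nat.eq_zero_or_pos (μ 0) with h0 | h0
    · exact Or.inl (free_of_not_block hm hmn h0 fun j a b => h (Sum.inr ⟨j, a, b⟩))
    · refine Or.inr ⟨μ (Fin.last n), Finsupp.ext fun l => ?_⟩
      have hlast : (0 : Fin (n + 1)) ≠ Fin.last n := fun hh => by simp [Fin.ext_iff] at hh; omega
      rcases eq_or_ne l 0 with rfl | hl
      · simp [hlast]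
        by_contra hne
        refine h (Sum.inl ⟨0, by simp; omega⟩) fun t => ?_
        rcases eq_or_ne t 0 with rfl | ht
        · simp [G]; omega
        · simp [G, ht]
      · rcases eq_or_ne l (Fin.last n) with rfl | hl'
        · simp [hl]
        · simp [hl, hl']
          by_contra hne
          refine h (Sum.inl ⟨l, by simp [Fin.ext_iff] at hl'; omega⟩) fun t => ?_
          rcases eq_or_ne t 0 with rfl | ht
          · simp [G, hl.symm]; omega
          · rcases eq_or_ne t l with rfl | ht'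
            · simp [G, ht]; omega
            · simp [G, ht, ht']
  · rintro (h | ⟨t, rfl⟩) (i | j) hle
    · have := hle 0
      simp [G, h.1] at this
    · exact h.not_block hm hmn j.2.1 j.2.2 hle
    · obtain ⟨i, hi⟩ := i
      have := hle i
      have hlast : i ≠ Fin.last n := fun hh => by subst hh; simp at hi
      rcases eq_or_ne i 0 with rfl | h0
      · simp [G, hlast] at this
      · simp [G, hlast, h0] at this
    · obtain ⟨j, hj1, hjm⟩ := j
      have := hle 1
      have h1 := one_val hm hmn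
      have n0 : (1 : Fin (n + 1)) ≠ 0 := fun hh => by rw [hh] at h1; simp at h1
      have nl : (1 : Fin (n + 1)) ≠ Fin.last n := fun hh => by rw [hh] at h1; simp at h1; omega
      simp [G, n0, nl] at this
      omega

end

/-- slots `(B_j, x₁^q x_l)` -/
abbrev FT (n q m : ℕ) := {μ : Fin (n + 1) →₀ ℕ // μ.degree = q + 1 ∧ Free n q m μ ∧ μ 1 = q}

/-- monomials of degree `q` in `x₁,…,x_n` other than `x₁^q` -/
abbrev RT (n q : ℕ) := {ν : Fin (n + 1) →₀ ℕ // ν.degree = q ∧ ν 0 = 0 ∧ ν 1 < q}

/-- the parameters for the coefficients of the first block on monomials free of `x₀` -/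
structure APart (n q m : ℕ) (PA : Type*) (k : Type*) [Zero k] where
  pA : Fin (n + 1) → (Fin (n + 1) →₀ ℕ) → Option PA
  repA : PA → IA n × (Fin (n + 1) →₀ ℕ)
  deg : ∀ i μ p, pA i μ = some p → μ.degree = 2 ∧ μ 0 = 0
  mult : ∀ i μ p, pA i μ = some p → μ + e (repA p).1.1 = (repA p).2 + e i
  rep_eq : ∀ p, pA (repA p).1.1 (repA p).2 = some p
  rep_free : ∀ p, Free n q m (repA p).2
  rel : ∀ i j : Fin (n + 1), i.val + 1 ≤ n → j.val + 1 ≤ n → i ≠ j → ∀ γ, Free n q m γ →
    (if e j ≤ γ then pA i (γ - e j) else none) = (if e i ≤ γ then pA j (γ - e i) else none)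
  zero0 : ∀ i : Fin (n + 1), 1 ≤ i.val → i.val + 1 ≤ n → pA i (Finsupp.single (Fin.last n) 2) = none
  zero1 : ∀ j : Fin (n + 1), 2 ≤ j.val → j.val ≤ m → ∀ γ, Free n q m γ → (q - 1) • e 1 + e j ≤ γ →
    pA 1 (γ - ((q - 1) • e 1 + e j)) = none
  zero2 : ∀ j : Fin (n + 1), 1 ≤ j.val → j.val ≤ m → ∀ γ, Free n q m γ → q • e 1 ≤ γ → pA j (γ - q • e 1) = none
  solA : ∀ (c : Fin (n + 1) → (Fin (n + 1) →₀ ℕ) → k),
    (∀ i j : Fin (n + 1), i.val + 1 ≤ n → j.val + 1 ≤ n → i ≠ j → ∀ γ, Free n q m γ →
      (if e j ≤ γ then c i (γ - e j) else 0) = (if e i ≤ γ then c j (γ - e i) else 0)) →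
    ∀ i : Fin (n + 1), i.val + 1 ≤ n → ∀ μ, Free n q m μ → μ.degree = 2 →
      c i μ = (pA i μ).elim 0 fun p => c (repA p).1.1 (repA p).2

/-- the second generator of the second block -/
def two (hm : 2 ≤ m) (hmn : m < n) : IB n m := ⟨⟨2, by omega⟩, by simp, hm⟩

section Main

variable {k : Type*} [Field k] {PA : Type*} (A : APart n q m PA k)

abbrev Param (n q m : ℕ) (PA : Type*) := (IA n ⊕ PA) ⊕ (IB n m ⊕ ((IB n m × FT n q m) ⊕ RT n q))

theorem degree_sub {σ : Type*} {μ ν : σ →₀ ℕ} (h : ν ≤ μ) : (μ - ν).degree + ν.degree = μ.degree := by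
  rw [← map_add, tsub_add_cancel_of_le h]

open Classical in
noncomputable def piB (j : IB n m) (μ : Fin (n + 1) →₀ ℕ) : Option (IB n m ⊕ ((IB n m × FT n q m) ⊕ RT n q)) :=
  if μ = e 0 + q • e (Fin.last n) then some (.inl j)
  else if h : μ.degree = q + 1 ∧ Free n q m μ ∧ μ 1 = q then some (.inr (.inl (j, ⟨μ, h⟩)))
  else if h : μ.degree = q + 1 ∧ μ 0 = 0 ∧ μ 1 < q ∧ e j.1 ≤ μ then
    some (.inr (.inr ⟨μ - e j.1, by
      have := degree_sub h.2.2.2
      have h0 := (tsub_le_self : μ - e j.1 ≤ μ) 0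
      have h1 := (tsub_le_self : μ - e j.1 ≤ μ) 1
      refine ⟨?_, by omega, by omega⟩
      simp at this
      omega⟩))
  else none

open Classical in
noncomputable def pi : IA n ⊕ IB n m → (Fin (n + 1) →₀ ℕ) → Option (Param n q m PA)
  | .inl i, μ => if μ = e 0 + e (Fin.last n) then some (.inl (.inl i)) else (A.pA i.1 μ).map fun p => .inl (.inr p)
  | .inr j, μ => (piB j μ).map .inr

variable (hm : 2 ≤ m) (hmn : m < n) (hq : 1 ≤ q)
include hm hmn

include hm hmn in
noncomputable def rep : Param n q m PA → (IA n ⊕ IB n m) × (Fin (n + 1) →₀ ℕ)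
  | .inl (.inl i) => (.inl i, e 0 + e (Fin.last n))
  | .inl (.inr p) => (.inl (A.repA p).1, (A.repA p).2)
  | .inr (.inl j) => (.inr j, e 0 + q • e (Fin.last n))
  | .inr (.inr (.inl x)) => (.inr x.1, x.2.1)
  | .inr (.inr (.inr ν)) => (.inr (two hm hmn), e (two hm hmn).1 + ν.1)

omit hm hmn in
theorem G_deg_inl (i : IA n) : (G n q m (.inl i)).degree = 2 := by simp [G]

omit hm hmn in
theorem G_deg_inr (j : IB n m) : (G n q m (.inr j)).degree = q + 1 := by simp [G]

theorem last_ne : Fin.last n ≠ 0 ∧ Fin.last n ≠ 1 := by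
  refine ⟨fun h => ?_, fun h => ?_⟩
  · simp [Fin.ext_iff] at h; omega
  · have := congrArg Fin.val h
    rw [one_val hm hmn] at this
    simp at this
    omega

theorem one_ne_zero' : (1 : Fin (n + 1)) ≠ 0 := fun h => by
  have := congrArg Fin.val h
  rw [one_val hm hmn] at this
  simp at this

theorem free_rep_R (ν : RT n q) : Free n q m (e (two hm hmn).1 + ν.1) ∧ (e (two hm hmn).1 + ν.1) 1 < q := by
  obtain ⟨-, h0, h1⟩ := ν.2
  have a : (two hm hmn).1 ≠ 0 := fun h => absurd (congrArg Fin.val h) (by simp [two])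
  have b : (two hm hmn).1 ≠ 1 := fun h => by
    have := congrArg Fin.val h
    rw [one_val hm hmn] at this
    simp [two] at this
  have hlt : (e (two hm hmn).1 + ν.1) 1 < q := by simpa [b.symm] using h1
  exact ⟨⟨by simp [a.symm, h0], Or.inl hlt⟩, hlt⟩

omit hm hmn in
theorem ne_T {μ : Fin (n + 1) →₀ ℕ} (h0 : μ 0 = 0) (x : Fin (n + 1) →₀ ℕ) : μ ≠ e 0 + x := by
  rintro rfl
  simp at h0

theorem piB_mult {j : IB n m} {μ : Fin (n + 1) →₀ ℕ} {p} (h : piB j μ = some p) :
    μ.degree = q + 1 ∧ μ + G n q m (rep A hm hmn (.inr p)).1 = (rep A hm hmn (.inr p)).2 + G n q m (.inr j) := by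
  rw [piB] at h
  split_ifs at h with c1 c2 c3
  · cases h
    subst c1
    exact ⟨by simp; omega, rfl⟩
  · cases h
    exact ⟨c2.1, rfl⟩
  · cases h
    refine ⟨c3.1, ?_⟩
    simp only [rep, G, Sum.elim_inr]
    have := tsub_add_cancel_of_le c3.2.2.2
    generalize μ - e j.1 = ν at this ⊢
    subst this
    abel

theorem diffAA {i j : IA n} (hij : i ≠ j) : G n q m (.inl j) - G n q m (.inl i) = e j.1 := by
  have h : i.1 ≠ j.1 := fun h => hij (Subtype.ext h)
  refine Finsupp.ext fun t => ?_
  rcases eq_or_ne t j.1 with rfl | ht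
  · simp [G, h.symm]
  · simp [G, ht]

theorem diffBB {i j : IB n m} (hij : i ≠ j) : G n q m (.inr j) - G n q m (.inr i) = e j.1 := by
  have h : i.1 ≠ j.1 := fun h => hij (Subtype.ext h)
  refine Finsupp.ext fun t => ?_
  rcases eq_or_ne t j.1 with rfl | ht
  · simp [G, h.symm]
  · simp [G, ht]

variable {I : Ideal (MvPolynomial (Fin (n + 1)) k)}
  (hI : I = Ideal.span (Set.range fun g => monomial (G n q m g) (1 : k)))
include hq hI

theorem relAA (i j : IA n) {γ : Fin (n + 1) →₀ ℕ} (hγ : γ ∉ exps I) :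
    along (G n q m) (pi A) none (.inl i) (.inl j) γ = along (G n q m) (pi A) none (.inl j) (.inl i) γ := by
  classical
  rcases eq_or_ne i j with rfl | hij
  · rfl
  have hij' : i.1 ≠ j.1 := fun h => hij (Subtype.ext h)
  simp only [along, diffAA hm hmn hij, diffAA hm hmn hij.symm]
  rcases (std_iff hm hmn hq hI γ).1 hγ with hf | ⟨t, rfl⟩
  · have key : ∀ (i : IA n) (x : Fin (n + 1) →₀ ℕ), pi A (.inl i) (γ - x) = (A.pA i.1 (γ - x)).map fun p => .inl (.inr p) :=
      fun i x => if_neg (ne_T (Nat.eq_zero_of_le_zero (((tsub_le_self : γ - x ≤ γ) 0).trans hf.1.le)) _)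
    have := congrArg (Option.map fun p => (Sum.inl (Sum.inr p) : Param n q m PA)) (A.rel i.1 j.1 i.2 j.2 hij' γ hf)
    simp only [key]
    split_ifs at this ⊢ <;> simpa using this
  · suffices ∀ (i j : IA n), i.1 ≠ j.1 → (if e j.1 ≤ e 0 + Finsupp.single (Fin.last n) t then
        pi A (.inl i) (e 0 + Finsupp.single (Fin.last n) t - e j.1) else none) = none by
      rw [this i j hij', this j i hij'.symm]
    intro i j hij
    split_ifs with h
    · have hl : j.1 ≠ Fin.last n := fun hh => by have := congrArg Fin.val hh; simp at this; omega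
      have hj0 : j.1 = 0 := by
        by_contra hne
        have := h j.1
        simp [hne, hl] at this
      rw [hj0] at hij ⊢
      rw [add_tsub_cancel_left, pi, if_neg (ne_T (by simp [(last_ne hm hmn).1.symm]) _)]
      cases hp : A.pA i.1 (Finsupp.single (Fin.last n) t) with
      | none => rfl
      | some p =>
        have hd := (A.deg _ _ _ hp).1
        rw [Finsupp.degree_single] at hd
        subst hd
        rw [A.zero0 i.1 (Nat.one_le_iff_ne_zero.2 fun hh => hij (Fin.ext hh)) i.2] at hp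
        exact absurd hp (by simp)
    · rfl

theorem relBB (i j : IB n m) {γ : Fin (n + 1) →₀ ℕ} (hγ : γ ∉ exps I) :
    along (G n q m) (pi A) none (.inr i) (.inr j) γ = along (G n q m) (pi A) none (.inr j) (.inr i) γ := by
  classical
  rcases eq_or_ne i j with rfl | hij
  · rfl
  have hij' : i.1 ≠ j.1 := fun h => hij (Subtype.ext h)
  simp only [along, diffBB hm hmn hij, diffBB hm hmn hij.symm]
  rcases (std_iff hm hmn hq hI γ).1 hγ with hf | ⟨t, rfl⟩
  · have key : ∀ (i j : IB n m), i.1 ≠ j.1 → (if e j.1 ≤ γ then pi A (.inr i) (γ - e j.1) else none) =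
        if h : γ.degree = q + 2 ∧ γ 1 < q ∧ e i.1 + e j.1 ≤ γ then
          some (.inr (.inr (.inr ⟨γ - (e i.1 + e j.1), by
            have := degree_sub h.2.2
            have h0 := (tsub_le_self : γ - (e i.1 + e j.1) ≤ γ) 0
            have h1 := (tsub_le_self : γ - (e i.1 + e j.1) ≤ γ) 1
            simp at this
            exact ⟨by omega, by have := hf.1; omega, by omega⟩⟩))) else none := by
      intro i j hij
      have hsum : e i.1 + e j.1 ≤ γ → e j.1 ≤ γ ∧ e i.1 ≤ γ - e j.1 := fun h =>
        ⟨le_trans le_add_self h, fun t => by have := h t; simp at this ⊢; omega⟩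
      by_cases hle : e j.1 ≤ γ
      swap
      · rw [if_neg hle, dif_neg fun h => hle (hsum h.2.2).1]
      have hd := degree_sub hle
      simp at hd
      have hμ0 : (γ - e j.1) 0 = 0 := Nat.eq_zero_of_le_zero (((tsub_le_self : γ - e j.1 ≤ γ) 0).trans hf.1.le)
      have hblk : ∀ x : IB n m, x.1 ≠ 1 → e x.1 ≤ γ → γ 1 < q := fun x hx h => by
        by_contra hge
        refine hf.not_block hm hmn x.2.1 x.2.2 fun t => ?_
        rcases eq_or_ne t 1 with rfl | ht
        · simpa [hx.symm] using not_lt.1 hge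
        · simpa [ht] using h t
      have hμ1 : (γ - e j.1) 1 < q := by
        rcases eq_or_ne j.1 1 with hj | hj
        · have := hle 1
          rcases hf.2 with hh | ⟨hh, -⟩ <;> simp [hj] at this ⊢ <;> omega
        · exact lt_of_le_of_lt ((tsub_le_self : γ - e j.1 ≤ γ) 1) (hblk j hj hle)
      rw [if_pos hle, pi, piB, if_neg (ne_T hμ0 _), dif_neg fun h => by omega]
      by_cases hc : (γ - e j.1).degree = q + 1 ∧ (γ - e j.1) 0 = 0 ∧ (γ - e j.1) 1 < q ∧ e i.1 ≤ γ - e j.1
      · have hγ1 : γ 1 < q := by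
          rcases eq_or_ne j.1 1 with hj | hj
          · exact hblk i (fun h => hij (h.trans hj.symm)) (hc.2.2.2.trans tsub_le_self)
          · exact hblk j hj hle
        have hc' : γ.degree = q + 2 ∧ γ 1 < q ∧ e i.1 + e j.1 ≤ γ :=
          ⟨by omega, hγ1, (add_le_add_left hc.2.2.2 _).trans (tsub_add_cancel_of_le hle).le⟩
        rw [dif_pos hc, dif_pos hc', Option.map_some]
        congr 4
        apply Subtype.ext
        show γ - e j.1 - e i.1 = γ - (e i.1 + e j.1)
        rw [tsub_tsub, add_comm (e j.1)]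
      · rw [dif_neg hc, dif_neg fun h => hc ⟨by omega, hμ0, hμ1, (hsum h.2.2).2⟩, Option.map_none]
    rw [key i j hij', key j i hij'.symm]
    simp only [add_comm (e j.1) (e i.1)]
  · suffices ∀ (j : IB n m), ¬ e j.1 ≤ e 0 + Finsupp.single (Fin.last n) t by rw [if_neg (this j), if_neg (this i)]
    intro j h
    have := h j.1
    have n0 : j.1 ≠ 0 := fun hh => by have := j.2.1; rw [hh] at this; simp at this
    have nl : j.1 ≠ Fin.last n := fun hh => by have := j.2.2; rw [hh] at this; simp at this; omega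
    simp [n0, nl] at this

theorem relAB (i : IA n) (j : IB n m) {γ : Fin (n + 1) →₀ ℕ} (hγ : γ ∉ exps I) :
    along (G n q m) (pi A) none (.inl i) (.inr j) γ = none ∧ along (G n q m) (pi A) none (.inr j) (.inl i) γ = none := by
  classical
  have h1 := one_val hm hmn
  have hl := last_ne hm hmn
  have n10 := one_ne_zero' hm hmn
  obtain ⟨j, hj1, hjm⟩ := j
  obtain ⟨i, hi⟩ := i
  have hj0 : j ≠ 0 := fun h => by subst h; simp at hj1
  have il : i ≠ Fin.last n := fun h => by subst h; simp at hi
  have jl : j ≠ Fin.last n := fun h => by subst h; simp at hjm; omega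
  constructor
  · simp only [along]
    split_ifs with hle
    swap
    · rfl
    have key : (i = 1 ∧ 2 ≤ j.val) ∨ i = j := by
      by_contra hc
      rw [not_or] at hc
      refine ((std_iff hm hmn hq hI γ).1 hγ).elim (fun hf => hf.not_block hm hmn hj1 hjm fun t => ?_) fun ⟨s, hs⟩ => ?_
      · have := hle t
        have hij : i ≠ j := hc.2
        have hi1 : i = 1 → False := fun h => hc.1 ⟨h, by
          by_contra h2
          exact hij (by rw [h]; exact Fin.ext (by omega))⟩
        simp [G] at this ⊢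
        rcases eq_or_ne t i with rfl | ht
        · simp [hij, show t ≠ (1 : Fin (n + 1)) from fun h => hi1 h]
        · rcases eq_or_ne t 0 with rfl | ht0
          · simp [hj0.symm, n10.symm]
          · simpa [ht, ht0] using this
      · subst hs
        have := hle j
        have hij : i ≠ j := hc.2
        simp [G, hj0, jl, hij.symm] at this
    have hu : (G n q m (.inr ⟨j, hj1, hjm⟩) - G n q m (.inl ⟨i, hi⟩)) =
        if i = j then q • e 1 else (q - 1) • e 1 + e j := by
      rcases key with ⟨rfl, hj2⟩ | rfl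
      · have nj : j ≠ (1 : Fin (n + 1)) := fun h => by subst h; omega
        rw [if_neg nj.symm]
        refine Finsupp.ext fun t => ?_
        rcases eq_or_ne t 1 with rfl | ht
        · simp [G, n10, nj.symm]
        · rcases eq_or_ne t j with rfl | ht'
          · simp [G, ht, hj0]
          · simp [G, ht, ht']
      · rw [if_pos rfl]
        refine Finsupp.ext fun t => ?_
        rcases eq_or_ne t i with rfl | ht
        · simp [G, hj0]
        · rcases eq_or_ne t 0 with rfl | ht0
          · simp [G, n10.symm, hj0.symm]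
          · simp [G, ht, ht0]
    rcases (std_iff hm hmn hq hI γ).1 hγ with hf | ⟨s, rfl⟩
    · rw [pi, if_neg (ne_T (Nat.eq_zero_of_le_zero (((tsub_le_self : γ - _ ≤ γ) 0).trans hf.1.le)) _)]
      rw [hu] at hle ⊢
      rcases key with ⟨rfl, hj2⟩ | rfl
      · have nj : (1 : Fin (n + 1)) ≠ j := fun h => by subst h; omega
        rw [if_neg nj] at hle ⊢
        rw [A.zero1 j hj2 hjm γ hf hle]
        rfl
      · rw [if_pos rfl] at hle ⊢
        rw [A.zero2 i hj1 hjm γ hf hle]
        rfl
    · exfalso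
      rw [hu] at hle
      rcases key with ⟨rfl, hj2⟩ | rfl
      · have nj : (1 : Fin (n + 1)) ≠ j := fun h => by subst h; omega
        rw [if_neg nj] at hle
        have := hle j
        simp [hj0, jl, nj.symm] at this
      · rw [if_pos rfl] at hle
        have := hle 1
        simp [n10, hl.2.symm] at this
        omega
  · simp only [along]
    split_ifs with hle
    swap
    · rfl
    rcases (std_iff hm hmn hq hI γ).1 hγ with hf | ⟨s, rfl⟩
    · exfalso
      have := hle 0
      simp [G, hf.1, n10.symm, hj0.symm] at this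
    · have hu : G n q m (.inl ⟨i, hi⟩) - G n q m (.inr ⟨j, hj1, hjm⟩) = e 0 := by
        refine eq_of_le_of_degree ?_ ?_
        · intro t
          rcases eq_or_ne t 0 with rfl | ht
          · simp [G, hj0.symm, n10.symm]
          · simp [ht]
        · have hw : G n q m (.inl ⟨i, hi⟩) - G n q m (.inr ⟨j, hj1, hjm⟩) ≤ e 0 := fun t => by
            rcases eq_or_ne t 0 with rfl | ht
            · have := hle 0
              simpa [hl.1.symm] using this
            · rcases eq_or_ne t (Fin.last n) with rfl | ht'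
              · simp [G, ht, il.symm]
              · have := hle t
                simpa [ht, ht'] using this
          have := Finsupp.degree_mono hw
          simpa using this
      have hz : piB (q := q) (⟨j, hj1, hjm⟩ : IB n m) (Finsupp.single (Fin.last n) s) = none := by
        have z1 : Finsupp.single (Fin.last n) s 1 = 0 := by simp [hl.2.symm]
        have zj : Finsupp.single (Fin.last n) s j = 0 := by simp [jl]
        rw [piB, if_neg (ne_T (by simp [hl.1.symm]) _), dif_neg (fun h => by have := h.2.2; omega),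
          dif_neg (fun h => by have := h.2.2.2 j; simp only [zj, Finsupp.single_eq_same] at this; omega)]
      rw [hu, add_tsub_cancel_left, pi, hz]
      rfl

theorem solB {c : IA n ⊕ IB n m → (Fin (n + 1) →₀ ℕ) → k} (hc : IsSol I (G n q m) c) (j : IB n m)
    {μ : Fin (n + 1) →₀ ℕ} (hμ : μ ∉ exps I) (hd : μ.degree = q + 1) :
    c (.inr j) μ = (piB j μ).elim 0 fun p => c (rep A hm hmn (.inr p)).1 (rep A hm hmn (.inr p)).2 := by
  classical
  have h1 := one_val hm hmn
  rcases (std_iff hm hmn hq hI μ).1 hμ with hf | ⟨t, rfl⟩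
  swap
  · obtain rfl : t = q := by simp at hd; omega
    rw [piB, if_pos (by simp)]
    simp [rep]
  rw [piB, if_neg (ne_T hf.1 _)]
  by_cases hF : μ.degree = q + 1 ∧ Free n q m μ ∧ μ 1 = q
  · rw [dif_pos hF]
    rfl
  rw [dif_neg hF]
  have hμ1 : μ 1 < q := hf.2.elim id fun h => absurd ⟨hd, hf, h.1⟩ hF
  have rel : ∀ (i : IB n m), i ≠ j → Free n q m (μ + e i.1) →
      c (.inr j) μ = if e j.1 ≤ μ then c (.inr i) (μ - e j.1 + e i.1) else 0 := by
    intro i hne hfree
    have hne' : j.1 ≠ i.1 := fun h => hne (Subtype.ext h.symm)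
    have := hc.rel (.inr j) (.inr i) (μ + e i.1) ((std_iff hm hmn hq hI _).2 (Or.inl hfree))
    simp only [along, diffBB hm hmn hne.symm, diffBB hm hmn hne] at this
    rw [if_pos le_add_self, add_tsub_cancel_right] at this
    rw [this]
    by_cases hj : e j.1 ≤ μ
    · rw [if_pos hj, if_pos (hj.trans le_self_add), tsub_add_eq_add_tsub hj]
    · rw [if_neg hj, if_neg]
      exact fun h => hj fun t => by
        have := h t
        rcases eq_or_ne t i.1 with rfl | ht
        · simp [hne'.symm]
        · simpa [ht] using this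
  by_cases hj : e j.1 ≤ μ
  · have hR : μ.degree = q + 1 ∧ μ 0 = 0 ∧ μ 1 < q ∧ e j.1 ≤ μ := ⟨hd, hf.1, hμ1, hj⟩
    rw [dif_pos hR]
    simp only [Option.elim_some, rep]
    rcases eq_or_ne j (two hm hmn) with rfl | hne
    · rw [add_tsub_cancel_of_le hj]
    · rw [rel (two hm hmn) hne.symm, if_pos hj, add_comm]
      have t1 : (1 : Fin (n + 1)) ≠ (two hm hmn).1 := fun h => by
        have := congrArg Fin.val h; rw [h1] at this; simp [two] at this
      have t0 : (0 : Fin (n + 1)) ≠ (two hm hmn).1 := fun h => by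
        have := congrArg Fin.val h; simp [two] at this
      exact ⟨by simp [t0, hf.1], Or.inl (by simpa [t1] using hμ1)⟩
  · rw [dif_neg fun h => hj h.2.2.2, Option.elim_none]
    obtain ⟨i, hne, hfree⟩ : ∃ i : IB n m, i ≠ j ∧ Free n q m (μ + e i.1) := by
      have hz : μ j.1 = 0 := by
        by_contra h
        exact hj (Finsupp.single_le_iff.2 (Nat.one_le_iff_ne_zero.2 h))
      rcases eq_or_ne j.1 1 with hj1 | hj1
      · refine ⟨two hm hmn, fun h => ?_, ?_, Or.inl ?_⟩
        · have := congrArg (fun x : IB n m => x.1.val) h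
          rw [hj1, h1] at this
          simp [two] at this
        · have t0 : (0 : Fin (n + 1)) ≠ (two hm hmn).1 := fun h => by
            have := congrArg Fin.val h; simp [two] at this
          simp [t0, hf.1]
        · have t1 : (1 : Fin (n + 1)) ≠ (two hm hmn).1 := fun h => by
            have := congrArg Fin.val h; rw [h1] at this; simp [two] at this
          simp [t1]
          rw [← hj1, hz]
          omega
      by_cases hk : μ 1 + 1 < q ∨ ∀ l : Fin (n + 1), 2 ≤ l.val → l.val ≤ m → μ l = 0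
      · refine ⟨⟨1, by omega, by omega⟩, fun h => hj1 (congrArg Subtype.val h).symm, ?_, ?_⟩
        · simp [(one_ne_zero' hm hmn).symm, hf.1]
        · rcases hk with hk | hk
          · exact Or.inl (by simpa using hk)
          · rcases (show μ 1 + 1 < q ∨ μ 1 + 1 = q by omega) with h | h
            · exact Or.inl (by simpa using h)
            · refine Or.inr ⟨by simpa using h, fun l a b => ?_⟩
              have : l ≠ 1 := fun hh => by subst hh; omega
              simpa [this] using hk l a b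
      · push Not at hk
        obtain ⟨hq1, l, a, b, hl⟩ := hk
        have hl1 : (1 : Fin (n + 1)) ≠ l := fun hh => by subst hh; omega
        have hl0 : (0 : Fin (n + 1)) ≠ l := fun hh => by subst hh; simp at a
        refine ⟨⟨l, by omega, b⟩, fun h => hl ?_, by simp [hl0, hf.1], Or.inl (by simpa [hl1] using hμ1)⟩
        rw [← hz, ← h]
    rw [rel i hne hfree, if_neg hj]

noncomputable def labelling : Labelling I (G n q m) (pi A) where
  rep := rep A hm hmn
  deg g μ p h := by
    rcases g with i | j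
    · rw [pi] at h
      split_ifs at h with c1
      · subst c1; simp [G]
      · obtain ⟨p', hp', -⟩ := Option.map_eq_some_iff.1 h
        rw [G_deg_inl, (A.deg _ _ _ hp').1]
    · rw [pi] at h
      obtain ⟨p', hp', -⟩ := Option.map_eq_some_iff.1 h
      rw [G_deg_inr, (piB_mult A hm hmn hp').1]
  mult g μ p h := by
    rcases g with i | j
    · rw [pi] at h
      split_ifs at h with c1
      · subst c1; cases h; rfl
      · obtain ⟨p', hp', rfl⟩ := Option.map_eq_some_iff.1 h
        simp only [rep, G, Sum.elim_inl]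
        rw [add_left_comm, A.mult _ _ _ hp']
        abel
    · rw [pi] at h
      obtain ⟨p', hp', rfl⟩ := Option.map_eq_some_iff.1 h
      exact (piB_mult A hm hmn hp').2
  rep_eq p := by
    rcases p with (i | p) | (j | x | ν)
    · rw [rep, pi, if_pos rfl]
    · rw [rep, pi, if_neg (ne_T (A.rep_free p).1 _), A.rep_eq p]
      rfl
    · rw [rep, pi, piB, if_pos rfl]
      rfl
    · rw [rep, pi, piB, if_neg (ne_T x.2.2.2.1.1 _), dif_pos x.2.2]
      rfl
    · obtain ⟨hf, hlt⟩ := free_rep_R hm hmn ν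
      rw [rep, pi, piB, if_neg (ne_T hf.1 _), dif_neg fun h => hlt.ne h.2.2,
        dif_pos ⟨by simp [ν.2.1]; omega, hf.1, hlt, le_self_add⟩]
      simp
  rep_std p := by
    rw [std_iff hm hmn hq hI]
    rcases p with (i | p) | (j | x | ν)
    · exact Or.inr ⟨1, rfl⟩
    · exact Or.inl (A.rep_free p)
    · exact Or.inr ⟨q, by simp [rep]⟩
    · exact Or.inl x.2.2.2.1
    · exact Or.inl (free_rep_R hm hmn ν).1
  rel g g' γ hγ := by
    rcases g with i | i <;> rcases g' with j | j
    · exact relAA A hm hmn hq hI i j hγ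
    · rw [(relAB A hm hmn hq hI i j hγ).1, (relAB A hm hmn hq hI i j hγ).2]
    · rw [(relAB A hm hmn hq hI j i hγ).1, (relAB A hm hmn hq hI j i hγ).2]
    · exact relBB A hm hmn hq hI i j hγ
  sol c hc g μ hμ hd := by
    classical
    rcases g with i | j
    · rw [G_deg_inl] at hd
      rw [pi]
      rcases (std_iff hm hmn hq hI μ).1 hμ with hf | ⟨t, rfl⟩
      · rw [if_neg (ne_T hf.1 _)]
        let c' : Fin (n + 1) → (Fin (n + 1) →₀ ℕ) → k := fun i μ => if h : i.val + 1 ≤ n then c (.inl ⟨i, h⟩) μ else 0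
        have h := A.solA c' (fun a b ha hb hab γ hγ => by
          have := hc.rel (.inl ⟨a, ha⟩) (.inl ⟨b, hb⟩) γ ((std_iff hm hmn hq hI γ).2 (Or.inl hγ))
          simp only [along, diffAA hm hmn (show (⟨a, ha⟩ : IA n) ≠ ⟨b, hb⟩ from fun h => hab (congrArg Subtype.val h)),
            diffAA hm hmn (show (⟨b, hb⟩ : IA n) ≠ ⟨a, ha⟩ from fun h => hab (congrArg Subtype.val h).symm)] at this
          simpa only [c', dif_pos ha, dif_pos hb] using this) i.1 i.2 μ hf hd
        have hci : c' i.1 μ = c (.inl i) μ := dif_pos i.2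
        rw [hci] at h
        rw [h]
        cases A.pA i.1 μ with
        | none => rfl
        | some p => exact dif_pos (A.repA p).1.2
      · obtain rfl : t = 1 := by simp at hd; omega
        rw [if_pos rfl]
        rfl
    · rw [G_deg_inr] at hd
      rw [pi, solB A hm hmn hq hI hc j hμ hd]
      cases piB j μ <;> rfl

end Main

section Count

theorem card_IA : Nat.card (IA n) = n := by
  rw [Nat.card_congr (⟨fun i => ⟨i.1.val, by have := i.2; omega⟩, fun i => ⟨⟨i.val, by omega⟩, by simp⟩,
    fun i => by ext; rfl, fun i => by ext; rfl⟩ : IA n ≃ Fin n), Nat.card_fin]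

theorem card_IB (hmn : m < n) : Nat.card (IB n m) = m := by
  rw [Nat.card_congr (⟨fun i => ⟨i.1.val - 1, by have := i.2; omega⟩, fun i => ⟨⟨i.val + 1, by omega⟩, by simp, by simp⟩,
    fun i => by apply Subtype.ext; apply Fin.ext; have := i.2; simp; omega, fun i => by ext; simp⟩ : IB n m ≃ Fin m), Nat.card_fin]

theorem card_FT (hm : 2 ≤ m) (hmn : m < n) : Nat.card (FT n q m) = n - m := by
  have h1 := one_val hm hmn
  let f : Fin (n - m) → FT n q m := fun x => ⟨q • e 1 + e ⟨m + 1 + x.val, by omega⟩, by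
    have n1 : (⟨m + 1 + x.val, by omega⟩ : Fin (n + 1)) ≠ 1 := fun h => by
      have := congrArg Fin.val h; rw [h1] at this; simp at this; omega
    have hv : (q • e (1 : Fin (n + 1)) + e (⟨m + 1 + x.val, by omega⟩ : Fin (n + 1))) 1 = q := by simp [n1.symm]
    refine ⟨by simp, ⟨?_, Or.inr ⟨hv, fun l a b => ?_⟩⟩, hv⟩
    · simp [(one_ne_zero' hm hmn).symm, Fin.ext_iff]
    · have : l ≠ 1 := fun hh => by subst hh; omega
      have : l ≠ ⟨m + 1 + x.val, by omega⟩ := fun hh => by have := congrArg Fin.val hh; simp at this; omega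
      simp [*]⟩
  refine (Nat.card_congr (Equiv.ofBijective f ⟨fun x y h => ?_, fun μ => ?_⟩).symm).trans (Nat.card_fin _)
  · have := congrArg (fun ν : FT n q m => ν.1) h
    simp only [f, add_left_cancel_iff] at this
    have := congrArg Fin.val (Finsupp.single_left_injective one_ne_zero this)
    simp at this
    exact Fin.ext this
  · obtain ⟨μ, hd, hf, hv⟩ := μ
    have hle : q • e (1 : Fin (n + 1)) ≤ μ := fun t => by
      rcases eq_or_ne t 1 with rfl | ht
      · simp [hv]
      · simp [ht]
    have hdd := degree_sub hle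
    simp only [hd, map_nsmul, Finsupp.degree_single, smul_eq_mul, mul_one] at hdd
    obtain ⟨l, hl⟩ := exists_of_degree_one (ν := μ - q • e 1) (by omega)
    have hμ : μ = q • e 1 + e l := by
      show μ = q • e 1 + Finsupp.single l 1
      rw [← hl, add_tsub_cancel_of_le hle]
    have hlm : m < l.val := by
      by_contra hh
      rcases Nat.eq_zero_or_pos l.val with h0 | h0
      · have : μ 0 ≠ 0 := by rw [hμ, show l = 0 from Fin.ext h0]; simp
        exact this hf.1
      · exact hf.not_block hm hmn h0 (by omega) hμ.ge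
    refine ⟨⟨l.val - (m + 1), by omega⟩, Subtype.ext ?_⟩
    simp only [f]
    rw [hμ]
    congr 2
    exact Fin.ext (by simp; omega)

theorem card_RT_add_one (hn : 1 ≤ n) : Nat.card (RT n q) + 1 = Nat.choose (n + q - 1) q := by
  classical
  have h1 := val_one (n := n) hn
  let s : Finset (Fin (n + 1)) := Finset.univ.erase 0
  have hmem : q • e (1 : Fin (n + 1)) ∈ s.finsuppAntidiag q := by
    rw [Finset.mem_finsuppAntidiag]
    have hs : (1 : Fin (n + 1)) ∈ s := Finset.mem_erase.2 ⟨fun h => by rw [h] at h1; simp at h1, Finset.mem_univ _⟩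
    refine ⟨?_, ?_⟩
    · rw [Finset.sum_eq_single_of_mem 1 hs fun b _ hb => by simp [hb]]
      simp
    · intro t ht
      by_contra hts
      apply Finsupp.mem_support_iff.1 ht
      have : t ≠ 1 := fun h => hts (h ▸ hs)
      simp [this]
  have key : Nat.card (RT n q) = ((s.finsuppAntidiag q).erase (q • e 1)).card := by
    rw [← Nat.card_eq_finsetCard]
    refine Nat.card_congr (Equiv.subtypeEquivRight fun ν => ?_)
    rw [Finset.mem_erase, Finset.mem_finsuppAntidiag']
    constructor
    · rintro ⟨hd, h0, hlt⟩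
      refine ⟨fun h => by simp [h] at hlt, ?_, fun t ht => ?_⟩
      · rw [← hd]; rfl
      · exact Finset.mem_erase.2 ⟨fun h => Finsupp.mem_support_iff.1 ht (h ▸ h0), Finset.mem_univ _⟩
    · rintro ⟨hne, hd, hsupp⟩
      have hd' : ν.degree = q := hd
      refine ⟨hd', ?_, ?_⟩
      · by_contra h
        exact (Finset.mem_erase.1 (hsupp (Finsupp.mem_support_iff.2 h))).1 rfl
      · by_contra hge
        refine hne (eq_of_le_of_degree (fun t => ?_) (by simp [hd']))
        rcases eq_or_ne t 1 with rfl | ht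
        · simp; omega
        · simp [ht]
  rw [key, Finset.card_erase_add_one hmem, Finset.card_finsuppAntidiag_nat_eq_choose]
  simp [s]

variable {k : Type*} [Field k] {PA : Type*} [Finite PA]

theorem finrank_eq (A : APart n q m PA k) (hm : 2 ≤ m) (hmn : m < n) (hq : 1 ≤ q)
    {I : Ideal (MvPolynomial (Fin (n + 1)) k)}
    (hI : I = Ideal.span (Set.range fun g => monomial (G n q m g) (1 : k))) :
    Module.finrank k ↥(hom0 I) + 1 = n + Nat.card PA + m + m * (n - m) + Nat.choose (n + q - 1) (n - 1) := by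
  classical
  haveI : Finite (FT n q m) := Nat.finite_of_card_ne_zero (by rw [card_FT hm hmn]; omega)
  haveI : Finite (RT n q) :=
    ((Finset.univ.finsuppAntidiag q).finite_toSet.subset fun ν (hν : ν.degree = q ∧ ν 0 = 0 ∧ ν 1 < q) => by
      simp [Finset.mem_finsuppAntidiag, ← hν.1, Finsupp.degree_eq_sum]).to_subtype
  haveI := Fintype.ofFinite PA
  haveI := Fintype.ofFinite (FT n q m)
  haveI := Fintype.ofFinite (RT n q)
  rw [(labelling A hm hmn hq hI).finrank_eq hI, ← Nat.card_eq_fintype_card, Nat.card_sum, Nat.card_sum, Nat.card_sum,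
    Nat.card_sum, Nat.card_prod, card_IA, card_IB hmn, card_FT hm hmn,
    Nat.choose_symm_of_eq_add (show n + q - 1 = (n - 1) + q by omega), ← card_RT_add_one (show 1 ≤ n by omega)]
  omega

end Count

end Hom0Lib.TwoBlock
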